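import Mathlib.GroupTheory.Sylow
import Mathlib.GroupTheory.Solvable
import Mathlib.GroupTheory.IsSubnormal
import Mathlib.GroupTheory.Frattini
import Mathlib.GroupTheory.Nilpotent
import Cfsg.Prelude.Def_Solvable
import Cfsg.Prelude.Def_CaseTheorems

/-!
# Cores: `pCore`, `pPrimeCore`, `fittingSubgroup`

Basic API, namespace `Cfsg.Agent.Lib.Cores`.
-/

set_option autoImplicit false
set_option linter.style.haveILetI false

open scoped Pointwise
open Cfsg

namespace Cfsg.Agent.Lib.Cores

variable {G : Type*} [Group G] {G' : Type*} [Group G']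

/-! ### Joins of normal subgroups with a property -/

/-- In a finite group, the join of all normal subgroups with a property that holds of `⊥` and is closed
under joins of two normal subgroups again has the property. -/
theorem sSup_normal_mem [Finite G] {P : Subgroup G → Prop} (hbot : P ⊥)
    (hsup : ∀ H K : Subgroup G, H.Normal → K.Normal → P H → P K → P (H ⊔ K)) :
    P (sSup {N : Subgroup G | N.Normal ∧ P N}) := by
  let S := {N : Subgroup G | N.Normal ∧ P N}
  obtain ⟨M, hM⟩ := (Set.toFinite S).exists_maximal ⟨⊥, inferInstance, hbot⟩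
  have hle : ∀ N ∈ S, N ≤ M := by
    intro N hN
    have h1 : M ⊔ N ∈ S :=
      ⟨by haveI := hM.1.1; haveI := hN.1; infer_instance, hsup M N hM.1.1 hN.1 hM.1.2 hN.2⟩
    exact le_trans le_sup_right (hM.2 h1 le_sup_left)
  have : sSup S = M := le_antisymm (sSup_le hle) (le_sSup hM.1)
  exact this ▸ hM.1.2

/-- The image of `H ⊔ K` has order dividing the product of the two orders when `K` is normal. -/
theorem card_sup_dvd_mul (H K : Subgroup G) [K.Normal] :
    Nat.card (H ⊔ K : Subgroup G) ∣ Nat.card H * Nat.card K := by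
  have h := Subgroup.relIndex_mul_relIndex (⊥ : Subgroup G) K (H ⊔ K) bot_le le_sup_right
  rw [Subgroup.relIndex_bot_left, Subgroup.relIndex_bot_left, Subgroup.relIndex_sup_right] at h
  rw [← h, mul_comm (Nat.card H)]
  exact mul_dvd_mul_left _ (Subgroup.relIndex_dvd_card _ _)

/-- A subgroup that is characteristic in a normal subgroup is normal (image form). -/
theorem normal_map_subtype (H : Subgroup G) [H.Normal] (K : Subgroup H) [K.Characteristic] :
    (K.map H.subtype).Normal :=
  ConjAct.normal_of_characteristic_of_normal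

/-! ### The p-core -/

/-- A normal `p`-subgroup is in `O_p(G)`. -/
theorem le_pCore {p : ℕ} {N : Subgroup G} [hN : N.Normal] (h : IsPGroup p N) : N ≤ pCore p G :=
  le_sSup ⟨hN, h⟩

/-- `O_p(G)` is a `p`-group. -/
theorem pCore_isPGroup [Finite G] (p : ℕ) : IsPGroup p (pCore p G) :=
  sSup_normal_mem (P := fun N => IsPGroup p N) IsPGroup.of_bot
    fun H K _ _ hH hK => hH.to_sup_of_normal_right hK

/-- `O_p(G)` lies in every Sylow `p`-subgroup (no finiteness needed). -/
theorem pCore_le_sylow {p : ℕ} [Fact p.Prime] [Finite G] (P : Sylow p G) :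
    pCore p G ≤ (P : Subgroup G) :=
  (pCore_isPGroup p).le_sylow_of_normal P

/-- A normal Sylow subgroup is `O_p(G)`. -/
theorem pCore_eq_of_normal_sylow {p : ℕ} [Fact p.Prime] [Finite G] (P : Sylow p G)
    [hP : (P : Subgroup G).Normal] : pCore p G = P :=
  le_antisymm (pCore_le_sylow P) (le_pCore P.isPGroup')

/-- `O_p(G) = G` iff `G` is a `p`-group. -/
theorem pCore_eq_top_iff [Finite G] {p : ℕ} : pCore p G = ⊤ ↔ IsPGroup p G := by
  constructor
  · intro h
    have h1 := pCore_isPGroup (G := G) p
    rw [h] at h1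
    exact h1.of_equiv Subgroup.topEquiv
  · intro h
    exact top_le_iff.1 (le_pCore (h.to_subgroup ⊤))

theorem map_pCore_le {p : ℕ} (f : G →* G') (hf : Function.Surjective f) :
    (pCore p G).map f ≤ pCore p G' := by
  rw [Subgroup.map_le_iff_le_comap]
  refine sSup_le fun N hN => Subgroup.map_le_iff_le_comap.1 ?_
  haveI : (N.map f).Normal := hN.1.map f hf
  exact le_pCore (hN.2.map f)

theorem map_pCore_equiv {p : ℕ} (e : G ≃* G') : (pCore p G).map e.toMonoidHom = pCore p G' := by
  refine le_antisymm (map_pCore_le _ e.surjective) ?_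
  intro x hx
  refine ⟨e.symm x, map_pCore_le e.symm.toMonoidHom e.symm.surjective ⟨x, hx, rfl⟩, ?_⟩
  simp

instance pCore_characteristic (p : ℕ) : (pCore p G).Characteristic :=
  Subgroup.characteristic_iff_map_eq.2 fun e => map_pCore_equiv e

/-- `O_p(G/O_p(G)) = 1`. -/
theorem pCore_quotient_pCore [Finite G] (p : ℕ) : pCore p (G ⧸ pCore p G) = ⊥ := by
  have hk : IsPGroup p (QuotientGroup.mk' (pCore p G)).ker := by
    rw [QuotientGroup.ker_mk']; exact pCore_isPGroup p
  have h := le_pCore ((pCore_isPGroup (G := G ⧸ pCore p G) p).comap_of_ker_isPGroup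
    (QuotientGroup.mk' (pCore p G)) hk)
  rw [← Subgroup.map_comap_eq_self_of_surjective (QuotientGroup.mk'_surjective (pCore p G))
    (pCore p (G ⧸ pCore p G))]
  refine le_bot_iff.1 ((Subgroup.map_mono h).trans ?_)
  rw [QuotientGroup.map_mk'_self]

/-- For a normal subgroup `H`, `O_p(H) = H ∩ O_p(G)`. -/
theorem map_subtype_pCore [Finite G] (p : ℕ) (H : Subgroup G) [H.Normal] :
    (pCore p H).map H.subtype = H ⊓ pCore p G := by
  haveI := normal_map_subtype H (pCore p H)
  refine le_antisymm (le_inf (Subgroup.map_subtype_le _) (le_pCore ((pCore_isPGroup p).map _))) ?_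
  rw [← Subgroup.map_subgroupOf_eq_of_le (inf_le_left : H ⊓ pCore p G ≤ H)]
  refine Subgroup.map_mono (le_pCore ?_)
  exact (pCore_isPGroup (G := G) p).to_inf_right.comap_subtype

/-- A subnormal `p`-subgroup is in `O_p(G)`. -/
theorem IsSubnormal.le_pCore [Finite G] {p : ℕ} {H : Subgroup G} (hH : H.IsSubnormal)
    (hp : IsPGroup p H) : H ≤ pCore p G := by
  suffices key : ∀ K : Subgroup G, K.IsSubnormal → (pCore p K).map K.subtype ≤ pCore p G by
    refine le_trans ?_ (key H hH)
    rw [pCore_eq_top_iff.2 hp, ← MonoidHom.range_eq_map, Subgroup.range_subtype]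
  intro K hK
  induction hK with
  | top =>
    haveI : (Cfsg.pCore p (⊤ : Subgroup G)).Characteristic := inferInstance
    haveI := normal_map_subtype (⊤ : Subgroup G) (Cfsg.pCore p (⊤ : Subgroup G))
    exact Cores.le_pCore ((pCore_isPGroup p).map _)
  | step H K hle _ hN ih =>
    haveI := hN
    refine le_trans ?_ ih
    haveI := normal_map_subtype (H.subgroupOf K) (Cfsg.pCore p (H.subgroupOf K))
    have h1 : ((Cfsg.pCore p (H.subgroupOf K)).map (H.subgroupOf K).subtype).map K.subtype
        ≤ (Cfsg.pCore p K).map K.subtype :=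
      Subgroup.map_mono (Cores.le_pCore ((pCore_isPGroup p).map _))
    refine le_trans (le_of_eq ?_) h1
    rw [← map_pCore_equiv (Subgroup.subgroupOfEquivOfLe hle), Subgroup.map_map, Subgroup.map_map]
    rfl

/-! ### The p'-core -/

/-- A normal subgroup of order prime to `p` is in `O_{p'}(G)`. -/
theorem le_pPrimeCore {p : ℕ} {N : Subgroup G} [hN : N.Normal] (h : (Nat.card N).Coprime p) :
    N ≤ pPrimeCore p G :=
  le_sSup ⟨hN, h⟩

/-- `O_{p'}(G)` has order prime to `p`. -/
theorem pPrimeCore_coprime [Finite G] (p : ℕ) : (Nat.card (pPrimeCore p G)).Coprime p :=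
  sSup_normal_mem (P := fun N : Subgroup G => (Nat.card N).Coprime p) (by simp)
    fun H K _ hK h1 h2 => by
      haveI := hK
      exact Nat.Coprime.of_dvd_left (card_sup_dvd_mul H K) (h1.mul_left h2)

theorem not_dvd_card_pPrimeCore [Finite G] (p : ℕ) [hp : Fact p.Prime] :
    ¬ p ∣ Nat.card (pPrimeCore p G) :=
  hp.out.coprime_iff_not_dvd.1 (pPrimeCore_coprime p).symm

theorem le_pPrimeCore_of_not_dvd {p : ℕ} [hp : Fact p.Prime] {N : Subgroup G} [N.Normal]
    (h : ¬ p ∣ Nat.card N) : N ≤ pPrimeCore p G :=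
  le_pPrimeCore (hp.out.coprime_iff_not_dvd.2 h).symm

theorem map_pPrimeCore_le {p : ℕ} (f : G →* G') (hf : Function.Surjective f) :
    (pPrimeCore p G).map f ≤ pPrimeCore p G' := by
  rw [Subgroup.map_le_iff_le_comap]
  refine sSup_le fun N hN => Subgroup.map_le_iff_le_comap.1 ?_
  haveI : (N.map f).Normal := hN.1.map f hf
  exact le_pPrimeCore (Nat.Coprime.of_dvd_left (Subgroup.card_map_dvd _ f) hN.2)

theorem map_pPrimeCore_equiv {p : ℕ} (e : G ≃* G') :
    (pPrimeCore p G).map e.toMonoidHom = pPrimeCore p G' := by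
  refine le_antisymm (map_pPrimeCore_le _ e.surjective) ?_
  intro x hx
  refine ⟨e.symm x, map_pPrimeCore_le e.symm.toMonoidHom e.symm.surjective ⟨x, hx, rfl⟩, ?_⟩
  simp

instance pPrimeCore_characteristic (p : ℕ) : (pPrimeCore p G).Characteristic :=
  Subgroup.characteristic_iff_map_eq.2 fun e => map_pPrimeCore_equiv e

/-- `O_{p'}(G/O_{p'}(G)) = 1`. -/
theorem pPrimeCore_quotient_pPrimeCore [Finite G] (p : ℕ) :
    pPrimeCore p (G ⧸ pPrimeCore p G) = ⊥ := by
  set M := (pPrimeCore p (G ⧸ pPrimeCore p G)).comap (QuotientGroup.mk' (pPrimeCore p G)) with hM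
  have h : M ≤ pPrimeCore p G := by
    refine le_pPrimeCore ?_
    have hle : pPrimeCore p G ≤ M := by
      intro x hx
      rw [hM, Subgroup.mem_comap, QuotientGroup.mk'_apply, (QuotientGroup.eq_one_iff x).2 hx]
      exact one_mem _
    have h1 := Subgroup.relIndex_mul_relIndex (⊥ : Subgroup G) _ M bot_le hle
    rw [Subgroup.relIndex_bot_left, Subgroup.relIndex_bot_left] at h1
    rw [← h1]
    refine (pPrimeCore_coprime p).mul_left ?_
    have h2 : (pPrimeCore p G).relIndex M = Nat.card (pPrimeCore p (G ⧸ pPrimeCore p G)) := by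
      have h3 := Subgroup.relIndex_comap (⊥ : Subgroup (G ⧸ pPrimeCore p G))
        (QuotientGroup.mk' (pPrimeCore p G)) M
      rwa [MonoidHom.comap_bot, QuotientGroup.ker_mk', hM,
        Subgroup.map_comap_eq_self_of_surjective (QuotientGroup.mk'_surjective _),
        Subgroup.relIndex_bot_left, ← hM] at h3
    rw [h2]
    exact pPrimeCore_coprime p
  rw [← Subgroup.map_comap_eq_self_of_surjective (QuotientGroup.mk'_surjective (pPrimeCore p G))
    (pPrimeCore p (G ⧸ pPrimeCore p G))]
  refine le_bot_iff.1 ((Subgroup.map_mono h).trans ?_)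
  rw [QuotientGroup.map_mk'_self]

/-- `O_p(G) ∩ O_{p'}(G) = 1`. -/
theorem pCore_inf_pPrimeCore [Finite G] (p : ℕ) [hp : Fact p.Prime] :
    pCore p G ⊓ pPrimeCore p G = ⊥ := by
  obtain ⟨n, hn⟩ := IsPGroup.iff_card.1 (pCore_isPGroup (G := G) p)
  refine Subgroup.eq_bot_of_card_eq _ ?_
  have h1 := Subgroup.card_dvd_of_le (inf_le_left : pCore p G ⊓ pPrimeCore p G ≤ _)
  have h2 := Subgroup.card_dvd_of_le (inf_le_right : pCore p G ⊓ pPrimeCore p G ≤ _)
  rw [hn] at h1
  exact Nat.eq_one_of_dvd_coprimes (((pPrimeCore_coprime (G := G) p).symm).pow_left n) h1 h2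

/-! ### The Fitting subgroup -/

instance fittingSubgroup_normal : (fittingSubgroup G).Normal :=
  Subgroup.sSup_normal _ fun _ h => h.1

/-- A normal nilpotent subgroup is in `F(G)`. -/
theorem le_fittingSubgroup {N : Subgroup G} [hN : N.Normal] (h : Group.IsNilpotent N) :
    N ≤ fittingSubgroup G :=
  le_sSup ⟨hN, h⟩

theorem pCore_le_fittingSubgroup [Finite G] (p : ℕ) [Fact p.Prime] :
    pCore p G ≤ fittingSubgroup G :=
  le_fittingSubgroup (pCore_isPGroup p).isNilpotent

/-- A normal nilpotent subgroup lies in the join of the `p`-cores. -/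
theorem le_iSup_pCore [Finite G] {N : Subgroup G} [N.Normal] (h : Group.IsNilpotent N) :
    N ≤ ⨆ p : Nat.Primes, pCore (p : ℕ) G := by
  set S : Subgroup G := ⨆ p : Nat.Primes, pCore (p : ℕ) G with hS
  have hsyl : ∀ (p : ℕ) [Fact p.Prime] (P : Sylow p N), (P : Subgroup N).map N.subtype ≤ S := by
    intro p hp P
    haveI : (P : Subgroup N).Normal := inferInstance
    haveI := P.characteristic_of_normal this
    haveI := normal_map_subtype N (P : Subgroup N)
    exact le_trans (le_pCore (P.isPGroup'.map _)) (le_iSup_of_le ⟨p, hp.out⟩ le_rfl)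
  have htop : (S.subgroupOf N).index = 1 := by
    refine Nat.eq_one_iff_not_exists_prime_dvd.2 fun p hp hdvd => ?_
    haveI : Fact p.Prime := ⟨hp⟩
    obtain ⟨P⟩ : Nonempty (Sylow p N) := inferInstance
    have hle : (P : Subgroup N) ≤ S.subgroupOf N := by
      intro x hx
      exact hsyl p P ⟨x, hx, rfl⟩
    exact P.not_dvd_index (hdvd.trans (Subgroup.index_dvd_of_le hle))
  exact Subgroup.subgroupOf_eq_top.1 (Subgroup.index_eq_one.1 htop)

/-- The join of the `p`-cores is nilpotent. -/
theorem iSup_pCore_isNilpotent [Finite G] :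
    Group.IsNilpotent (⨆ p : Nat.Primes, pCore (p : ℕ) G : Subgroup G) := by
  set K : Subgroup G := ⨆ p : Nat.Primes, pCore (p : ℕ) G with hK
  rw [Group.isNilpotent_of_finite_tfae.out 0 3 rfl rfl]
  intro p hp P
  have hle : pCore p G ≤ K := le_iSup_of_le ⟨p, hp.out⟩ le_rfl
  have hQ : IsPGroup p ((pCore p G).subgroupOf K) := (pCore_isPGroup p).comap_subtype
  have hidx : ¬ p ∣ ((pCore p G).subgroupOf K).index := by
    have hKle : K ≤ pPrimeCore p G ⊔ pCore p G := by
      refine iSup_le fun q => ?_
      by_cases hq : (q : ℕ) = p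
      · rw [hq]; exact le_sup_right
      · haveI : Fact (q : ℕ).Prime := ⟨q.2⟩
        refine le_trans (le_pPrimeCore_of_not_dvd ?_) le_sup_left
        obtain ⟨n, hn⟩ := IsPGroup.iff_card.1 (pCore_isPGroup (G := G) (q : ℕ))
        rw [hn]
        intro hd
        exact hq ((Nat.prime_dvd_prime_iff_eq hp.out q.2).1 (hp.out.dvd_of_dvd_pow hd)).symm
    have h1 : (pCore p G).relIndex K ∣ (pCore p G).relIndex (pPrimeCore p G ⊔ pCore p G) :=
      Dvd.intro _ (Subgroup.relIndex_mul_relIndex _ _ _ hle hKle)
    rw [Subgroup.relIndex_sup_right] at h1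
    exact fun h => not_dvd_card_pPrimeCore (G := G) p
      (h.trans (h1.trans (Subgroup.relIndex_dvd_card _ _)))
  haveI : ((pCore p G).subgroupOf K).Normal := inferInstance
  haveI hn : ((hQ.toSylow hidx : Sylow p K) : Subgroup K).Normal := by
    rw [IsPGroup.toSylow_coe]; infer_instance
  haveI := Sylow.unique_of_normal (hQ.toSylow hidx) hn
  rw [Subsingleton.elim P (hQ.toSylow hidx)]
  exact hn

/-- `F(G)` is the join of the `p`-cores. -/
theorem fittingSubgroup_eq_iSup_pCore [Finite G] :
    fittingSubgroup G = ⨆ p : Nat.Primes, pCore (p : ℕ) G :=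
  le_antisymm (sSup_le fun N hN => by haveI := hN.1; exact le_iSup_pCore hN.2)
    (iSup_le fun p => by haveI : Fact (p : ℕ).Prime := ⟨p.2⟩; exact pCore_le_fittingSubgroup _)

/-- Fitting's theorem: `F(G)` is nilpotent. -/
theorem fittingSubgroup_isNilpotent [Finite G] : Group.IsNilpotent (fittingSubgroup G) :=
  fittingSubgroup_eq_iSup_pCore (G := G) ▸ iSup_pCore_isNilpotent

/-- A subgroup of a nilpotent subgroup is nilpotent. -/
theorem isNilpotent_of_le {H K : Subgroup G} (hle : H ≤ K) (hK : Group.IsNilpotent K) :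
    Group.IsNilpotent H :=
  Group.nilpotent_of_mulEquiv (Subgroup.subgroupOfEquivOfLe hle)

/-- The image of a nilpotent subgroup is nilpotent. -/
theorem isNilpotent_map (f : G →* G') {H : Subgroup G} (hH : Group.IsNilpotent H) :
    Group.IsNilpotent (H.map f) :=
  Group.nilpotent_of_surjective (f.subgroupMap H) (f.subgroupMap_surjective H)

/-- The join of two normal nilpotent subgroups is nilpotent. -/
theorem isNilpotent_sup [Finite G] {H K : Subgroup G} [H.Normal] [K.Normal]
    (hH : Group.IsNilpotent H) (hK : Group.IsNilpotent K) :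
    Group.IsNilpotent (H ⊔ K : Subgroup G) :=
  isNilpotent_of_le (sup_le (le_fittingSubgroup hH) (le_fittingSubgroup hK))
    fittingSubgroup_isNilpotent

/-- `F(G) = G` iff `G` is nilpotent. -/
theorem fittingSubgroup_eq_top_iff [Finite G] : fittingSubgroup G = ⊤ ↔ Group.IsNilpotent G := by
  constructor
  · intro h
    have h1 := fittingSubgroup_isNilpotent (G := G)
    rw [h] at h1
    exact Group.isNilpotent_top.1 h1
  · intro h
    exact top_le_iff.1 (le_fittingSubgroup (Group.isNilpotent_top.2 h))

theorem map_fittingSubgroup_le (f : G →* G') (hf : Function.Surjective f) :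
    (fittingSubgroup G).map f ≤ fittingSubgroup G' := by
  rw [Subgroup.map_le_iff_le_comap]
  refine sSup_le fun N hN => Subgroup.map_le_iff_le_comap.1 ?_
  haveI : (N.map f).Normal := hN.1.map f hf
  exact le_fittingSubgroup (isNilpotent_map f hN.2)

theorem map_fittingSubgroup_equiv (e : G ≃* G') :
    (fittingSubgroup G).map e.toMonoidHom = fittingSubgroup G' := by
  refine le_antisymm (map_fittingSubgroup_le _ e.surjective) ?_
  intro x hx
  refine ⟨e.symm x, map_fittingSubgroup_le e.symm.toMonoidHom e.symm.surjective ⟨x, hx, rfl⟩, ?_⟩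
  simp

instance fittingSubgroup_characteristic : (fittingSubgroup G).Characteristic :=
  Subgroup.characteristic_iff_map_eq.2 fun e => map_fittingSubgroup_equiv e

/-- For a normal subgroup `H`, `F(H) = H ∩ F(G)`. -/
theorem map_subtype_fittingSubgroup [Finite G] (H : Subgroup G) [H.Normal] :
    (fittingSubgroup H).map H.subtype = H ⊓ fittingSubgroup G := by
  haveI := normal_map_subtype H (fittingSubgroup H)
  refine le_antisymm (le_inf (Subgroup.map_subtype_le _)
    (le_fittingSubgroup (isNilpotent_map _ fittingSubgroup_isNilpotent))) ?_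
  rw [← Subgroup.map_subgroupOf_eq_of_le (inf_le_left : H ⊓ fittingSubgroup G ≤ H)]
  refine Subgroup.map_mono (le_fittingSubgroup ?_)
  haveI : Group.IsNilpotent (H ⊓ fittingSubgroup G : Subgroup G) :=
    isNilpotent_of_le inf_le_right fittingSubgroup_isNilpotent
  exact Group.nilpotent_of_mulEquiv (Subgroup.subgroupOfEquivOfLe inf_le_left).symm

/-- A subnormal nilpotent subgroup is in `F(G)`. -/
theorem IsSubnormal.le_fittingSubgroup [Finite G] {H : Subgroup G} (hH : H.IsSubnormal)
    (hn : Group.IsNilpotent H) : H ≤ fittingSubgroup G := by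
  suffices key : ∀ K : Subgroup G, K.IsSubnormal →
      (fittingSubgroup K).map K.subtype ≤ fittingSubgroup G by
    refine le_trans ?_ (key H hH)
    rw [fittingSubgroup_eq_top_iff.2 hn, ← MonoidHom.range_eq_map, Subgroup.range_subtype]
  intro K hK
  induction hK with
  | top =>
    haveI := normal_map_subtype (⊤ : Subgroup G) (Cfsg.fittingSubgroup (⊤ : Subgroup G))
    exact Cores.le_fittingSubgroup (isNilpotent_map _ fittingSubgroup_isNilpotent)
  | step H K hle _ hN ih =>
    haveI := hN
    refine le_trans ?_ ih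
    haveI := normal_map_subtype (H.subgroupOf K) (Cfsg.fittingSubgroup (H.subgroupOf K))
    have h1 : ((Cfsg.fittingSubgroup (H.subgroupOf K)).map (H.subgroupOf K).subtype).map K.subtype
        ≤ (Cfsg.fittingSubgroup K).map K.subtype :=
      Subgroup.map_mono (Cores.le_fittingSubgroup (isNilpotent_map _ fittingSubgroup_isNilpotent))
    refine le_trans (le_of_eq ?_) h1
    rw [← map_fittingSubgroup_equiv (Subgroup.subgroupOfEquivOfLe hle), Subgroup.map_map,
      Subgroup.map_map]
    rfl

/-- `Z(G) ≤ F(G)`. -/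
theorem center_le_fittingSubgroup : Subgroup.center G ≤ fittingSubgroup G := by
  refine le_fittingSubgroup ?_
  exact Subgroup.isNilpotent_of_lowerCentralSeries_eq_bot (n := 1) (by
    rw [Subgroup.lowerCentralSeries_succ, Subgroup.lowerCentralSeries_zero,
      Subgroup.commutator_eq_bot_iff_le_centralizer]
    exact Subgroup.center_le_centralizer _)

/-- `Φ(G) ≤ F(G)`. -/
theorem frattini_le_fittingSubgroup [Finite G] : frattini G ≤ fittingSubgroup G :=
  le_fittingSubgroup frattini_nilpotent

/-- The derived series of a subgroup, computed in the ambient group. -/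
def derivedIn (C : Subgroup G) : ℕ → Subgroup G
  | 0 => C
  | n + 1 => ⁅derivedIn C n, derivedIn C n⁆

theorem derivedIn_eq_map (C : Subgroup G) (n : ℕ) :
    derivedIn C n = (derivedSeries C n).map C.subtype := by
  induction n with
  | zero => simp [derivedIn, ← MonoidHom.range_eq_map]
  | succ n ih => rw [derivedIn, derivedSeries_succ, Subgroup.map_commutator, ih]

theorem derivedIn_normal (C : Subgroup G) [hC : C.Normal] : ∀ n, (derivedIn C n).Normal
  | 0 => hC
  | n + 1 => by
    haveI := derivedIn_normal C n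
    exact Subgroup.commutator_normal _ _

/-- In a finite solvable group `C_G(F(G)) ≤ F(G)`. -/
theorem centralizer_fittingSubgroup_le [Finite G] [Group.IsSolvable G] :
    Subgroup.centralizer (fittingSubgroup G : Set G) ≤ fittingSubgroup G := by
  set C := Subgroup.centralizer (fittingSubgroup G : Set G) with hCdef
  have hdC : ∀ n, derivedIn C n ≤ C := by
    intro n
    rw [derivedIn_eq_map]
    exact Subgroup.map_subtype_le _
  have key : ∀ n, derivedIn C (n + 1) ≤ fittingSubgroup G → derivedIn C n ≤ fittingSubgroup G := by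
    intro n h
    haveI := derivedIn_normal C n
    refine le_fittingSubgroup (Subgroup.isNilpotent_of_lowerCentralSeries_eq_bot (n := 2) ?_)
    rw [Subgroup.lowerCentralSeries_succ, Subgroup.lowerCentralSeries_succ,
      Subgroup.lowerCentralSeries_zero, Subgroup.commutator_eq_bot_iff_le_centralizer]
    intro x hx
    rw [Subgroup.mem_centralizer_iff]
    intro y hy
    exact ((Subgroup.mem_centralizer_iff.1 (hdC n hy)) x (h hx)).symm
  obtain ⟨n, hn⟩ := Group.IsSolvable.solvable (G := C)
  have hbot : derivedIn C n ≤ fittingSubgroup G := by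
    rw [derivedIn_eq_map, hn, Subgroup.map_bot]; exact bot_le
  clear hn
  induction n with
  | zero => exact hbot
  | succ n ih => exact ih (key n hbot)

/-- A nontrivial finite solvable group has nontrivial Fitting subgroup. -/
theorem fittingSubgroup_ne_bot [Finite G] [Group.IsSolvable G] [Nontrivial G] :
    fittingSubgroup G ≠ ⊥ := by
  intro h
  have h1 := centralizer_fittingSubgroup_le (G := G)
  rw [h, le_bot_iff] at h1
  rw [show Subgroup.centralizer ((⊥ : Subgroup G) : Set G) = ⊤ from top_le_iff.1 fun x _ => by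
    rw [Subgroup.mem_centralizer_iff]; intro y hy
    rw [Subgroup.mem_bot.1 hy, one_mul, mul_one]] at h1
  exact top_ne_bot h1

end Cfsg.Agent.Lib.Cores
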