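import Mathlib.GroupTheory.Sylow
import Mathlib.GroupTheory.Solvable
import Mathlib.GroupTheory.Complement
import Mathlib.GroupTheory.Frattini

/-!
# Minimal normal subgroups
-/

set_option autoImplicit false
set_option linter.style.haveILetI false

namespace Cfsg.Agent.Lib.Cores.MinNormal

variable {G : Type*} [Group G]

/-- Below a nontrivial normal subgroup of a finite group lies a minimal one. -/
theorem exists_minimal_le [Finite G] {K : Subgroup G} [hK : K.Normal] (h : K ≠ ⊥) :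
    ∃ N : Subgroup G, N.Normal ∧ N ≤ K ∧ N ≠ ⊥ ∧
      ∀ M : Subgroup G, M.Normal → M ≤ N → M = ⊥ ∨ M = N := by
  let S := {M : Subgroup G | M.Normal ∧ M ≤ K ∧ M ≠ ⊥}
  obtain ⟨N, hN⟩ := (Set.toFinite S).exists_minimal ⟨K, hK, le_rfl, h⟩
  refine ⟨N, hN.1.1, hN.1.2.1, hN.1.2.2, fun M hM hMN => or_iff_not_imp_left.2 fun hne => ?_⟩
  exact le_antisymm hMN (hN.2 ⟨hM, hMN.trans hN.1.2.1, hne⟩ hMN)

/-- A nontrivial finite group has a minimal normal subgroup. -/
theorem exists_minimal [Finite G] [Nontrivial G] :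
    ∃ N : Subgroup G, N.Normal ∧ N ≠ ⊥ ∧
      ∀ M : Subgroup G, M.Normal → M ≤ N → M = ⊥ ∨ M = N := by
  obtain ⟨N, h1, _, h2, h3⟩ := exists_minimal_le (K := (⊤ : Subgroup G)) top_ne_bot
  exact ⟨N, h1, h2, h3⟩

/-- A solvable minimal normal subgroup is abelian. -/
theorem isMulCommutative_of_solvable {N : Subgroup G} [N.Normal] [Group.IsSolvable N] (hN : N ≠ ⊥)
    (hmin : ∀ M : Subgroup G, M.Normal → M ≤ N → M = ⊥ ∨ M = N) : IsMulCommutative N := by
  haveI : Nontrivial N := (Subgroup.nontrivial_iff_ne_bot N).2 hN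
  have hlt : ⁅(⊤ : Subgroup N), ⊤⁆ < ⊤ := Group.IsSolvable.commutator_lt_top_of_nontrivial N
  have heq : ⁅N, N⁆ = Subgroup.map N.subtype ⁅(⊤ : Subgroup N), (⊤ : Subgroup N)⁆ := by
    rw [Subgroup.map_commutator, ← MonoidHom.range_eq_map, Subgroup.range_subtype]
  rcases hmin ⁅N, N⁆ (Subgroup.commutator_normal N N) (Subgroup.commutator_le_right N N) with h | h
  · refine ⟨⟨fun a b => ?_⟩⟩
    have h1 := Subgroup.commutator_eq_bot_iff_le_centralizer.1 h a.2
    exact Subtype.ext ((Subgroup.mem_centralizer_iff.1 h1) b b.2).symm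
  · refine absurd ?_ hlt.ne
    apply Subgroup.map_injective N.subtype_injective
    rw [← heq, h, ← MonoidHom.range_eq_map, Subgroup.range_subtype]

/-- An abelian minimal normal subgroup of a finite group has prime exponent. -/
theorem exists_prime_pow_eq_one [Finite G] {N : Subgroup G} [N.Normal] [IsMulCommutative N]
    (hN : N ≠ ⊥) (hmin : ∀ M : Subgroup G, M.Normal → M ≤ N → M = ⊥ ∨ M = N) :
    ∃ p : ℕ, p.Prime ∧ ∀ x ∈ N, x ^ p = 1 := by
  obtain ⟨p, hp, hdvd⟩ := Nat.exists_prime_and_dvd (mt Subgroup.card_eq_one.1 hN)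
  have hcomm : ∀ a ∈ N, ∀ b ∈ N, Commute a b := fun a ha b hb => by
    have h := mul_comm' (⟨a, ha⟩ : N) ⟨b, hb⟩
    exact congrArg Subtype.val h
  let M : Subgroup G :=
    { carrier := {x | x ∈ N ∧ x ^ p = 1}
      one_mem' := ⟨one_mem N, one_pow p⟩
      mul_mem' := fun {a b} ha hb => ⟨mul_mem ha.1 hb.1, by
        rw [(hcomm a ha.1 b hb.1).mul_pow, ha.2, hb.2, one_mul]⟩
      inv_mem' := fun {a} ha => ⟨inv_mem ha.1, by rw [inv_pow, ha.2, inv_one]⟩ }
  have hM : M.Normal := ⟨fun n hn g => ⟨Subgroup.Normal.conj_mem ‹_› n hn.1 g, by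
    rw [conj_pow, hn.2, mul_one, mul_inv_cancel]⟩⟩
  haveI : Fact p.Prime := ⟨hp⟩
  obtain ⟨x, hx⟩ := exists_prime_orderOf_dvd_card' p hdvd
  rcases hmin M hM (fun y hy => hy.1) with h | h
  · exfalso
    have h1 : (x : G) ∈ M := ⟨x.2, by rw [← orderOf_dvd_iff_pow_eq_one, Subgroup.orderOf_coe, hx]⟩
    rw [h, Subgroup.mem_bot] at h1
    rw [← Subgroup.orderOf_coe, h1, orderOf_one] at hx
    exact hp.ne_one hx.symm
  · exact ⟨p, hp, fun y hy => (h.symm ▸ hy : y ∈ M).2⟩

/-- A minimal normal subgroup of a finite solvable group is an abelian `p`-group of exponent `p`. -/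
theorem elementary_of_solvable [Finite G] [Group.IsSolvable G] {N : Subgroup G} [N.Normal]
    (hN : N ≠ ⊥) (hmin : ∀ M : Subgroup G, M.Normal → M ≤ N → M = ⊥ ∨ M = N) :
    IsMulCommutative N ∧ ∃ p : ℕ, p.Prime ∧ ∀ x ∈ N, x ^ p = 1 := by
  haveI := isMulCommutative_of_solvable hN hmin
  exact ⟨this, exists_prime_pow_eq_one hN hmin⟩

/-- A subgroup of exponent dividing `p` is a `p`-group. -/
theorem isPGroup_of_pow_eq_one {N : Subgroup G} {p : ℕ} (h : ∀ x ∈ N, x ^ p = 1) : IsPGroup p N :=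
  fun x => ⟨1, Subtype.ext (by simpa using h x x.2)⟩

/-- An abelian minimal normal subgroup outside a maximal subgroup is complemented by it. -/
theorem isComplement'_of_not_le [Finite G] {N M : Subgroup G} [hn : N.Normal] [IsMulCommutative N]
    (hM : IsCoatom M) (hmin : ∀ M : Subgroup G, M.Normal → M ≤ N → M = ⊥ ∨ M = N)
    (hle : ¬ N ≤ M) : Subgroup.IsComplement' N M := by
  have hsup : N ⊔ M = ⊤ := by
    rw [sup_comm]
    exact hM.2 _ (left_lt_sup.2 hle)
  have hnorm : (N ⊓ M).Normal := by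
    rw [← Subgroup.normalizer_eq_top_iff, ← top_le_iff, ← hsup]
    refine sup_le (Subgroup.le_normalizer_iff.2 fun n hn k hk => ?_)
      (Subgroup.le_normalizer_iff.2 fun m hm k hk => ?_)
    · have h1 : n * k = k * n := congrArg Subtype.val (mul_comm' (⟨n, hn⟩ : N) ⟨k, hk.1⟩)
      rwa [h1, mul_inv_cancel_right]
    · exact ⟨hn.conj_mem k hk.1 m, M.mul_mem (M.mul_mem hm hk.2) (M.inv_mem hm)⟩
  have hbot : N ⊓ M = ⊥ := (hmin _ hnorm inf_le_left).resolve_right fun h => hle (h ▸ inf_le_right)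
  refine Subgroup.isComplement'_of_disjoint_and_mul_eq_univ (disjoint_iff.2 hbot) ?_
  rw [← Subgroup.normal_mul, hsup, Subgroup.coe_top]

end Cfsg.Agent.Lib.Cores.MinNormal
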