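import Cfsg.Agent.Lib.Cores.Basic
import Cfsg.Prelude.Def_OddOrderLocal

/-!
# Cores: `piCore`, `oddCore`, `fittingOf`
-/

set_option autoImplicit false
set_option linter.style.haveILetI false

open scoped Pointwise
open Cfsg

namespace Cfsg.Agent.Lib.Cores

universe u

variable {G : Type u} [Group G] {G' : Type u} [Group G']

/-- A normal `π`-subgroup is in `O_π(G)`. -/
theorem le_piCore {π : Set ℕ} {N : Subgroup G} [hN : N.Normal]
    (h : ∀ p : ℕ, p.Prime → p ∣ Nat.card N → p ∈ π) : N ≤ piCore π G :=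
  le_sSup ⟨hN, h⟩

/-- `O_π(G)` is a `π`-group. -/
theorem piCore_isPiGroup [Finite G] (π : Set ℕ) :
    ∀ p : ℕ, p.Prime → p ∣ Nat.card (piCore π G) → p ∈ π :=
  sSup_normal_mem (P := fun N : Subgroup G => ∀ p : ℕ, p.Prime → p ∣ Nat.card N → p ∈ π)
    (by intro p hp h; simp at h; exact absurd h hp.ne_one)
    fun H K _ hK h1 h2 p hp h => by
      haveI := hK
      rcases hp.dvd_mul.1 (h.trans (card_sup_dvd_mul H K)) with h' | h'
      · exact h1 p hp h'
      · exact h2 p hp h'

theorem map_piCore_le {π : Set ℕ} (f : G →* G') (hf : Function.Surjective f) :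
    (piCore π G).map f ≤ piCore π G' := by
  rw [Subgroup.map_le_iff_le_comap]
  refine sSup_le fun N hN => Subgroup.map_le_iff_le_comap.1 ?_
  haveI : (N.map f).Normal := hN.1.map f hf
  exact le_piCore fun p hp h => hN.2 p hp (h.trans (Subgroup.card_map_dvd _ f))

theorem map_piCore_equiv {π : Set ℕ} (e : G ≃* G') :
    (piCore π G).map e.toMonoidHom = piCore π G' := by
  refine le_antisymm (map_piCore_le _ e.surjective) ?_
  intro x hx
  refine ⟨e.symm x, map_piCore_le e.symm.toMonoidHom e.symm.surjective ⟨x, hx, rfl⟩, ?_⟩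
  simp

instance piCore_characteristic (π : Set ℕ) : (piCore π G).Characteristic :=
  Subgroup.characteristic_iff_map_eq.2 fun e => map_piCore_equiv e

/-- For a normal subgroup `H`, `O_π(H) = H ∩ O_π(G)`. -/
theorem map_subtype_piCore [Finite G] (π : Set ℕ) (H : Subgroup G) [H.Normal] :
    (piCore π H).map H.subtype = H ⊓ piCore π G := by
  haveI := normal_map_subtype H (piCore π H)
  refine le_antisymm (le_inf (Subgroup.map_subtype_le _) (le_piCore fun p hp h =>
    piCore_isPiGroup (G := H) π p hp (h.trans (Subgroup.card_map_dvd _ _)))) ?_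
  rw [← Subgroup.map_subgroupOf_eq_of_le (inf_le_left : H ⊓ piCore π G ≤ H)]
  refine Subgroup.map_mono (le_piCore fun p hp h => piCore_isPiGroup (G := G) π p hp ?_)
  rw [Nat.card_congr (Subgroup.subgroupOfEquivOfLe (inf_le_left :
    H ⊓ piCore π G ≤ H)).toEquiv] at h
  exact h.trans (Subgroup.card_dvd_of_le inf_le_right)

theorem piCore_mono {π π' : Set ℕ} (h : π ⊆ π') : piCore π G ≤ piCore π' G :=
  sSup_le fun N hN => by haveI := hN.1; exact le_piCore fun p hp hd => h (hN.2 p hp hd)

/-- `O_{p'}(G) = O_π(G)` with `π` the primes other than `p`. -/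
theorem pPrimeCore_eq_piCore [Finite G] (p : ℕ) [hp : Fact p.Prime] :
    pPrimeCore p G = piCore {q | q ≠ p} G := by
  refine le_antisymm ?_ ?_
  · exact le_piCore fun q _ hd hqp => not_dvd_card_pPrimeCore (G := G) p (hqp ▸ hd)
  · exact le_pPrimeCore_of_not_dvd fun hd => piCore_isPiGroup {q | q ≠ p} p hp.out hd rfl

/-- `O_p(G) = O_π(G)` with `π = {p}`. -/
theorem pCore_eq_piCore [Finite G] (p : ℕ) [hp : Fact p.Prime] :
    pCore p G = piCore {p} G := by
  refine le_antisymm (le_piCore fun q hq hd => ?_) (le_pCore ?_)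
  · obtain ⟨n, hn⟩ := IsPGroup.iff_card.1 (pCore_isPGroup (G := G) p)
    rw [hn] at hd
    exact (Nat.prime_dvd_prime_iff_eq hq hp.out).1 (hq.dvd_of_dvd_pow hd)
  · exact IsPGroup.of_card (n := (Nat.card (piCore {p} G)).primeFactorsList.length)
      (Nat.eq_prime_pow_of_unique_prime_dvd Nat.card_pos.ne'
        fun {q} hq hd => piCore_isPiGroup {p} q hq hd)

/-- `O(G)` has odd order. -/
theorem oddCore_odd [Finite G] : Odd (Nat.card (oddCore G)) :=
  (Nat.coprime_two_right.1 (pPrimeCore_coprime 2))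

/-- A normal subgroup of odd order is in `O(G)`. -/
theorem le_oddCore {N : Subgroup G} [N.Normal] (h : Odd (Nat.card N)) : N ≤ oddCore G :=
  le_pPrimeCore (Nat.coprime_two_right.2 h)

/-- `F(M)` as a subgroup of `G` is nilpotent. -/
theorem fittingOf_isNilpotent [Finite G] (M : Subgroup G) : Group.IsNilpotent (fittingOf M) :=
  isNilpotent_map _ fittingSubgroup_isNilpotent

theorem fittingOf_le (M : Subgroup G) : fittingOf M ≤ M :=
  Subgroup.map_subtype_le _

/-- For `H` normal in `G`, `F(H)` as a subgroup of `G` is `H ∩ F(G)`. -/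
theorem fittingOf_eq_inf [Finite G] (H : Subgroup G) [H.Normal] :
    fittingOf H = H ⊓ fittingSubgroup G :=
  map_subtype_fittingSubgroup H

end Cfsg.Agent.Lib.Cores
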