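import Mathlib.GroupTheory.Complement
import Mathlib.GroupTheory.OrderOfElement
import Mathlib.GroupTheory.GroupAction.Quotient
import Mathlib.Algebra.Group.Subgroup.Pointwise
import Mathlib.Tactic

/-!
# Gaschütz's theorem by crossed homomorphisms
-/

set_option autoImplicit false
set_option linter.style.haveILetI false

open scoped Pointwise

namespace Cfsg.Agent.Lib.Cores.Gaschutz

variable {G : Type*} [Group G]

/-- Decomposition along a complement of `K` inside `U`. -/
theorem exists_cocycle {K U A : Subgroup G} [K.Normal] [IsMulCommutative K]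
    (hd : A ⊓ K = ⊥) (hs : K ⊔ A = U) :
    ∃ ψ : U → K, (∀ u : U, ((ψ u : G))⁻¹ * (u : G) ∈ A) ∧
      (∀ (u : U) (k : K), (k : G)⁻¹ * (u : G) ∈ A → ψ u = k) ∧
      (∀ u v : U, ψ (u * v) = ψ u * MulAut.conjNormal (u : G) (ψ v)) := by
  have hmul : ∀ u : U, ∃ k : K, (k : G)⁻¹ * (u : G) ∈ A := by
    intro u
    have h : (u : G) ∈ ((K ⊔ A : Subgroup G) : Set G) := by rw [hs]; exact u.2
    rw [Subgroup.normal_mul] at h
    obtain ⟨k, hk, a, ha, he⟩ := h
    exact ⟨⟨k, hk⟩, by simpa [← he] using ha⟩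
  choose ψ hψ using hmul
  have huniq : ∀ (u : U) (k : K), (k : G)⁻¹ * (u : G) ∈ A → ψ u = k := by
    intro u k hk
    have h1 : (k : G)⁻¹ * (ψ u : G) ∈ A := by
      have := A.mul_mem hk (A.inv_mem (hψ u))
      simpa [mul_assoc] using this
    have h2 : (k : G)⁻¹ * (ψ u : G) ∈ A ⊓ K := ⟨h1, K.mul_mem (K.inv_mem k.2) (ψ u).2⟩
    rw [hd, Subgroup.mem_bot, inv_mul_eq_one] at h2
    exact Subtype.ext h2.symm
  refine ⟨ψ, hψ, huniq, fun u v => huniq _ _ ?_⟩
  have he' : ((ψ u * MulAut.conjNormal (u : G) (ψ v) : K) : G)⁻¹ * ((u * v : U) : G)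
      = (u : G) * (ψ v : G)⁻¹ * (u : G)⁻¹ * (ψ u : G)⁻¹ * u * v := by
    simp only [Subgroup.coe_mul, MulAut.conjNormal_apply]
    group
  have hc : (u : G) * (ψ v : G)⁻¹ * (u : G)⁻¹ * (ψ u : G)⁻¹
      = (ψ u : G)⁻¹ * ((u : G) * (ψ v : G)⁻¹ * (u : G)⁻¹) := by
    have h := mul_comm' (MulAut.conjNormal (u : G) (ψ v)⁻¹) (ψ u)⁻¹
    have h' := congrArg Subtype.val h
    simpa [mul_assoc] using h'
  rw [he', hc]
  have : (ψ u : G)⁻¹ * ((u : G) * (ψ v : G)⁻¹ * (u : G)⁻¹) * u * v
      = ((ψ u : G)⁻¹ * u) * ((ψ v : G)⁻¹ * v) := by group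
  rw [this]
  exact A.mul_mem (hψ u) (hψ v)

/-- A crossed homomorphism `G → K` that is the identity on `K` gives a complement. -/
theorem isComplement'_of_cocycle {K : Subgroup G} [K.Normal] (Ψ : G → K)
    (hΨ : ∀ g h, Ψ (g * h) = Ψ g * MulAut.conjNormal g (Ψ h)) (hid : ∀ k : K, Ψ k = k) :
    ∃ H : Subgroup G, Subgroup.IsComplement' K H ∧ ∀ g, g ∈ H ↔ Ψ g = 1 := by
  have h1 : Ψ 1 = 1 := hid 1
  let H : Subgroup G :=
    { carrier := {g | Ψ g = 1}
      one_mem' := h1
      mul_mem' := fun {a b} ha hb => by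
        show Ψ (a * b) = 1
        rw [hΨ, show Ψ a = 1 from ha, show Ψ b = 1 from hb, map_one, one_mul]
      inv_mem' := fun {a} ha => by
        show Ψ a⁻¹ = 1
        have h := hΨ a⁻¹ a
        rw [inv_mul_cancel, h1, show Ψ a = 1 from ha, map_one, mul_one] at h
        exact h.symm }
  refine ⟨H, Subgroup.isComplement'_of_disjoint_and_mul_eq_univ ?_ ?_, fun g => Iff.rfl⟩
  · rw [Subgroup.disjoint_def]
    intro x hxK hxH
    have h2 : Ψ x = 1 := hxH
    rw [show x = ((⟨x, hxK⟩ : K) : G) from rfl, hid] at h2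
    exact congrArg Subtype.val h2
  · refine Set.eq_univ_of_forall fun g => ⟨Ψ g, (Ψ g).2, ((Ψ g : G))⁻¹ * g, ?_, by simp⟩
    show Ψ (((Ψ g : G))⁻¹ * g) = 1
    rw [hΨ, ← Subgroup.coe_inv, hid]
    refine Subtype.ext ?_
    simp

/-- Gaschütz: existence of complements. -/
theorem exists_complement [Finite G] {K U A : Subgroup G} [K.Normal] [IsMulCommutative K]
    (hKU : K ≤ U) (hcop : (Nat.card K).Coprime U.index) (hd : A ⊓ K = ⊥) (hs : K ⊔ A = U) :
    ∃ H : Subgroup G, Subgroup.IsComplement' K H := by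
  obtain ⟨ψ, hψ, huniq, hcoc⟩ := exists_cocycle hd hs
  letI : CommGroup K := { (inferInstance : Group K) with mul_comm := mul_comm' }
  haveI := Fintype.ofFinite (G ⧸ U)
  let u : G → (G ⧸ U) → U := fun g q => ⟨(g • q).out⁻¹ * g * q.out, by
    have h : ((g • q).out : G ⧸ U) = ((g * q.out : G) : G ⧸ U) := by
      rw [QuotientGroup.out_eq']
      conv_lhs => rw [← QuotientGroup.out_eq' q]
      rfl
    have := QuotientGroup.eq.1 h
    simpa [mul_assoc] using this⟩
  let t : G → (G ⧸ U) → K := fun g q => MulAut.conjNormal (g • q).out (ψ (u g q))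
  let Φ : G → K := fun g => ∏ q : G ⧸ U, t g q
  have ht : ∀ g h q, t (g * h) q = t g (h • q) * MulAut.conjNormal g (t h q) := by
    intro g h q
    have hu : u (g * h) q = u g (h • q) * u h q := Subtype.ext (by
      simp only [u, Subgroup.coe_mul, mul_smul]; group)
    show MulAut.conjNormal ((g * h) • q).out (ψ (u (g * h) q)) = _
    rw [hu, hcoc, map_mul, mul_smul]
    congr 1
    refine Subtype.ext ?_
    simp only [t, u, MulAut.conjNormal_apply, mul_smul]
    group
  have hΦ : ∀ g h, Φ (g * h) = Φ g * MulAut.conjNormal g (Φ h) := by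
    intro g h
    show (∏ q, t (g * h) q) = (∏ q, t g q) * MulAut.conjNormal g (∏ q, t h q)
    rw [Finset.prod_congr rfl fun q _ => ht g h q, Finset.prod_mul_distrib, map_prod]
    congr 1
    exact Fintype.prod_equiv (MulAction.toPerm h) _ _ fun q => rfl
  have hΦK : ∀ k : K, Φ k = k ^ U.index := by
    intro k
    have hq : ∀ q : G ⧸ U, t k q = k := by
      intro q
      have hfix : (k : G) • q = q := by
        induction q using QuotientGroup.induction_on with
        | H g =>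
          refine (QuotientGroup.eq.2 ?_).symm
          have : g⁻¹ * ((k : G) * g) ∈ K := by
            have := Subgroup.Normal.conj_mem ‹K.Normal› _ k.2 g⁻¹
            simpa [mul_assoc] using this
          exact hKU this
      have hψk : ψ (u k q) = MulAut.conjNormal q.out⁻¹ k := huniq _ _ (by
        have : ((MulAut.conjNormal q.out⁻¹ k : K) : G)⁻¹ * ((u k q : U) : G) = 1 := by
          simp only [u, MulAut.conjNormal_apply, hfix]; group
        rw [this]; exact one_mem A)
      refine Subtype.ext ?_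
      simp only [t, hψk, hfix, MulAut.conjNormal_apply]
      group
    show (∏ q, t k q) = _
    rw [Finset.prod_congr rfl fun q _ => hq q, Finset.prod_const, Finset.card_univ,
      ← Nat.card_eq_fintype_card, Subgroup.index_eq_card]
  let e : K ≃ K := powCoprime hcop
  let m : ℕ := ((Nat.card K).gcdB U.index % (Nat.card K : ℤ)).toNat
  have hroot : ∀ k : K, e.symm (k ^ U.index) = k := fun k => e.symm_apply_apply k
  have hmul : ∀ a b : K, e.symm (a * b) = e.symm a * e.symm b := by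
    intro a b
    apply e.injective
    rw [Equiv.apply_symm_apply]
    show a * b = (e.symm a * e.symm b) ^ U.index
    rw [mul_pow]
    congr 1 <;> exact (e.apply_symm_apply _).symm
  have hequiv : ∀ g (a : K), e.symm (MulAut.conjNormal g a) = MulAut.conjNormal g (e.symm a) := by
    intro g a
    apply e.injective
    rw [Equiv.apply_symm_apply]
    show _ = (MulAut.conjNormal g (e.symm a)) ^ U.index
    rw [← map_pow]
    congr 1
    exact (e.apply_symm_apply _).symm
  obtain ⟨H, hH, -⟩ := isComplement'_of_cocycle (fun g => e.symm (Φ g))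
    (fun g h => by simp only [hΦ, hmul, hequiv]) (fun k => by simp only [hΦK, hroot])
  exact ⟨H, hH⟩

/-- Gaschütz: conjugacy of complements. -/
theorem exists_conj [Finite G] {K U H₀ H₁ : Subgroup G} [K.Normal] [IsMulCommutative K]
    (hKU : K ≤ U) (hcop : (Nat.card K).Coprime U.index)
    (h₀ : Subgroup.IsComplement' K H₀) (h₁ : Subgroup.IsComplement' K H₁)
    (hU : H₀ ⊓ U = H₁ ⊓ U) : ∃ g : G, MulAut.conj g • H₀ = H₁ := by
  obtain ⟨α, hα, huα, hcα⟩ := exists_cocycle (U := ⊤) (A := H₀)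
    (by rw [inf_comm]; exact h₀.disjoint.eq_bot) h₀.sup_eq_top
  obtain ⟨β, hβ, huβ, hcβ⟩ := exists_cocycle (U := ⊤) (A := H₁)
    (by rw [inf_comm]; exact h₁.disjoint.eq_bot) h₁.sup_eq_top
  letI : CommGroup K := { (inferInstance : Group K) with mul_comm := mul_comm' }
  let a : G → K := fun g => α ⟨g, trivial⟩
  let b : G → K := fun g => β ⟨g, trivial⟩
  let d : G → K := fun g => b g * (a g)⁻¹
  have hd : ∀ g h, d (g * h) = d g * MulAut.conjNormal g (d h) := by
    intro g h
    have e1 : a (g * h) = a g * MulAut.conjNormal g (a h) := hcα ⟨g, trivial⟩ ⟨h, trivial⟩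
    have e2 : b (g * h) = b g * MulAut.conjNormal g (b h) := hcβ ⟨g, trivial⟩ ⟨h, trivial⟩
    simp only [d, e1, e2, map_mul, map_inv, mul_inv_rev]
    simp only [mul_assoc, mul_comm, mul_left_comm]
  have hdU : ∀ u ∈ U, d u = 1 := by
    intro u hu
    have h : (a u : G)⁻¹ * u ∈ H₀ ⊓ U := ⟨hα ⟨u, trivial⟩, U.mul_mem (U.inv_mem (hKU (a u).2)) hu⟩
    rw [hU] at h
    have : b u = a u := huβ ⟨u, trivial⟩ _ h.1
    simp only [d, this, mul_inv_cancel]
  have hdq : ∀ g h : G, (g : G ⧸ U) = (h : G ⧸ U) → d g = d h := by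
    intro g h hgh
    have h1 := hdU _ (QuotientGroup.eq.1 hgh)
    have h2 : d h = d (g * (g⁻¹ * h)) := by rw [mul_inv_cancel_left]
    rw [h2, hd, h1, map_one, mul_one]
  haveI := Fintype.ofFinite (G ⧸ U)
  let c : K := ∏ q : G ⧸ U, d q.out
  have hc : ∀ g, c = d g ^ U.index * MulAut.conjNormal g c := by
    intro g
    have h1 : c = ∏ q : G ⧸ U, d (g * q.out) := by
      refine (Fintype.prod_equiv (MulAction.toPerm g) _ _ fun q => ?_).symm
      refine hdq _ _ ?_
      rw [QuotientGroup.out_eq']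
      conv_rhs => rw [MulAction.toPerm_apply, ← QuotientGroup.out_eq' q]
      rfl
    conv_lhs => rw [h1]
    rw [Finset.prod_congr rfl fun q _ => hd g q.out, Finset.prod_mul_distrib, Finset.prod_const,
      Finset.card_univ, ← Nat.card_eq_fintype_card, Subgroup.index_eq_card, map_prod]
  let pe : K ≃ K := powCoprime hcop
  obtain ⟨e, he⟩ : ∃ e : K, e ^ U.index = c := ⟨pe.symm c, pe.apply_symm_apply c⟩
  have hde : ∀ g, d g = e * (MulAut.conjNormal g e)⁻¹ := by
    intro g
    apply pe.injective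
    show d g ^ U.index = (e * (MulAut.conjNormal g e)⁻¹) ^ U.index
    have hr : (e * (MulAut.conjNormal g e)⁻¹) ^ U.index = c * (MulAut.conjNormal g c)⁻¹ := by
      rw [mul_pow, inv_pow, ← map_pow, he]
    rw [hr]
    exact eq_mul_inv_iff_mul_eq.2 (hc g).symm
  refine ⟨(e : G)⁻¹, Subgroup.eq_of_le_of_card_ge ?_ ?_⟩
  · rintro _ ⟨g, hg, rfl⟩
    have ha : a g = 1 := huα ⟨g, trivial⟩ 1 (by simpa using hg)
    have hb : (b g : G) = (e : G) * ((g : G) * (e : G) * g⁻¹)⁻¹ := by
      have h := congrArg Subtype.val (hde g)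
      simp only [d, ha, inv_one, mul_one] at h
      rw [h]
      simp
    have h1 : (b g : G)⁻¹ * g ∈ H₁ := hβ ⟨g, trivial⟩
    show (e : G)⁻¹ * g * (e : G)⁻¹⁻¹ ∈ H₁
    have hcomm : (e : G)⁻¹ * (g * (e : G) * g⁻¹) = (g * (e : G) * g⁻¹) * (e : G)⁻¹ := by
      have h := congrArg Subtype.val (mul_comm e⁻¹ (MulAut.conjNormal g e))
      simpa using h
    have h2 : (e : G)⁻¹ * g * (e : G)⁻¹⁻¹ = (b g : G)⁻¹ * g := by
      calc (e : G)⁻¹ * g * (e : G)⁻¹⁻¹ = (e : G)⁻¹ * (g * (e : G) * g⁻¹) * g := by group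
        _ = (g * (e : G) * g⁻¹) * (e : G)⁻¹ * g := by rw [hcomm]
        _ = (b g : G)⁻¹ * g := by rw [hb]; group
    rw [h2]; exact h1
  · rw [← h₁.symm.index_eq_card, h₀.symm.index_eq_card]
    exact (Nat.card_congr (Subgroup.equivSMul (MulAut.conj (e : G)⁻¹) H₀).toEquiv).le

end Cfsg.Agent.Lib.Cores.Gaschutz
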