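import Cfsg.Agent.Lib.Coprime.Conjugacy
import Mathlib.GroupTheory.SchurZassenhaus

/-!
# An invariant Sylow subgroup under coprime action
-/

set_option autoImplicit false
set_option linter.style.haveILetI false

open scoped Pointwise

namespace Cfsg.Agent.Lib.Cores.InvariantSylow

universe u

variable {G : Type u} [Group G]

theorem exists_of_sup_eq_top [Finite G] {A K : Subgroup G} [K.Normal] (htop : A ⊔ K = ⊤)
    (hcop : (Nat.card A).Coprime (Nat.card K)) (hsolv : Group.IsSolvable A ∨ Group.IsSolvable K)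
    (p : ℕ) [Fact p.Prime] :
    ∃ P : Subgroup G, P ≤ K ∧ IsPGroup p P ∧ ¬ p ∣ P.relIndex K ∧
      A ≤ Subgroup.normalizer (P : Set G) := by
  obtain ⟨P₀⟩ : Nonempty (Sylow p K) := inferInstance
  set Q := (P₀ : Subgroup K).map K.subtype with hQ
  have hQK : Q ≤ K := Subgroup.map_subtype_le _
  have hQidx : ¬ p ∣ Q.relIndex K := by
    rw [hQ, Subgroup.relIndex, Subgroup.subgroupOf,
      Subgroup.comap_map_eq_self_of_injective K.subtype_injective]
    exact P₀.not_dvd_index
  set N := Subgroup.normalizer (Q : Set G) with hN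
  have harg : N ⊔ K = ⊤ := Sylow.normalizer_sup_eq_top P₀
  have hidx : (K.subgroupOf N).index = Nat.card A := by
    show K.relIndex N = _
    rw [← Subgroup.relIndex_sup_right N K, harg, ← htop, Subgroup.relIndex_sup_right]
    show (K.subgroupOf A).index = _
    rw [Subgroup.subgroupOf_eq_bot.2 (Subgroup.disjoint_of_coprime_natCard hcop.symm),
      Subgroup.index_bot]
  have hcard : Nat.card (K.subgroupOf N) ∣ Nat.card K :=
    Subgroup.card_comap_dvd_of_injective K N.subtype Subtype.coe_injective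
  have hcop' : (Nat.card (K.subgroupOf N)).Coprime (K.subgroupOf N).index := by
    rw [hidx]
    exact Nat.Coprime.coprime_dvd_left hcard hcop.symm
  obtain ⟨B, hB⟩ := Subgroup.exists_right_complement'_of_coprime hcop'
  have hBcard : Nat.card (B.map N.subtype) = Nat.card A := by
    rw [Subgroup.card_subtype, ← hidx, hB.symm.index_eq_card]
  obtain ⟨k, hk, hkA⟩ := Lib.Coprime.exists_conj_eq_of_coprime (B := B.map N.subtype)
    (Subgroup.le_normalizer_of_normal) hcop hsolv (by rw [htop]; exact le_top) hBcard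
  refine ⟨MulAut.conj k⁻¹ • Q, ?_, (P₀.isPGroup'.map _).map _, ?_, ?_⟩
  · rintro _ ⟨x, hx, rfl⟩
    exact K.mul_mem (K.mul_mem (K.inv_mem hk) (hQK hx)) (K.inv_mem (K.inv_mem hk))
  · have hKfix : MulAut.conj k⁻¹ • K = K :=
      Lib.Coprime.conj_smul_eq_self_of_mem_normalizer (Subgroup.le_normalizer (K.inv_mem hk))
    have h1 : (MulAut.conj k⁻¹ • Q).relIndex (MulAut.conj k⁻¹ • K) = Q.relIndex K :=
      Subgroup.relIndex_map_map_of_injective Q K (MulAut.conj k⁻¹).injective
    rw [hKfix] at h1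
    rwa [h1]
  · intro a ha
    have hka : k * a * k⁻¹ ∈ N :=
      Subgroup.map_subtype_le B (hkA ▸ (Lib.Coprime.mem_conj_smul.2 (by
        simpa [mul_assoc] using ha) : k * a * k⁻¹ ∈ MulAut.conj k • A))
    refine Lib.Coprime.mem_normalizer_of_conj_smul_eq ?_
    rw [← Lib.Coprime.conj_smul_mul, show a * k⁻¹ = k⁻¹ * (k * a * k⁻¹) by group,
      Lib.Coprime.conj_smul_mul, Lib.Coprime.conj_smul_eq_self_of_mem_normalizer hka]

/-- Coprime action: an `A`-invariant Sylow `p`-subgroup of `K`. -/
theorem exists_invariant [Finite G] {A K : Subgroup G}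
    (hAK : A ≤ Subgroup.normalizer (K : Set G)) (hcop : (Nat.card A).Coprime (Nat.card K))
    (hsolv : Group.IsSolvable A ∨ Group.IsSolvable K) (p : ℕ) [Fact p.Prime] :
    ∃ P : Subgroup G, P ≤ K ∧ IsPGroup p P ∧ ¬ p ∣ P.relIndex K ∧
      A ≤ Subgroup.normalizer (P : Set G) := by
  set L := A ⊔ K with hL
  have hKL : K ≤ L := le_sup_right
  have hALle : A ≤ L := le_sup_left
  haveI : (K.subgroupOf L).Normal :=
    (Subgroup.normal_subgroupOf_iff_le_normalizer hKL).2 (sup_le hAK Subgroup.le_normalizer)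
  have eA := (Subgroup.subgroupOfEquivOfLe hALle)
  have eK := (Subgroup.subgroupOfEquivOfLe hKL)
  obtain ⟨P, hPK, hPp, hPi, hPA⟩ := exists_of_sup_eq_top (A := A.subgroupOf L) (K := K.subgroupOf L)
    (by rw [← Subgroup.subgroupOf_sup hALle hKL, Subgroup.subgroupOf_self])
    (by rw [Nat.card_congr eA.toEquiv, Nat.card_congr eK.toEquiv]; exact hcop)
    (by
      rcases hsolv with h | h
      · exact Or.inl (Group.isSolvable_of_isSolvable_injective (f := eA.toMonoidHom) eA.injective)
      · exact Or.inr (Group.isSolvable_of_isSolvable_injective (f := eK.toMonoidHom) eK.injective)) p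
  refine ⟨P.map L.subtype, ?_, hPp.map _, ?_, ?_⟩
  · rintro _ ⟨x, hx, rfl⟩
    exact hPK hx
  · have h1 := Subgroup.relIndex_map_map_of_injective P (K.subgroupOf L) L.subtype_injective
    rw [Subgroup.map_subgroupOf_eq_of_le hKL] at h1
    rwa [h1]
  · intro a ha
    have h1 := Subgroup.le_normalizer_map (H := P) L.subtype
    exact h1 ⟨⟨a, hALle ha⟩, hPA ha, rfl⟩

end Cfsg.Agent.Lib.Cores.InvariantSylow
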