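import Mathlib.GroupTheory.Nilpotent
import Mathlib.GroupTheory.Sylow

/-!
# Normalizers inside nilpotent subgroups
-/

set_option autoImplicit false
set_option linter.style.haveILetI false

namespace Cfsg.Agent.Lib.Cores.Normalizer

variable {G : Type*} [Group G]

/-- Normalizers grow inside a nilpotent subgroup. -/
theorem lt_normalizer_inf {D P : Subgroup G} (hP : Group.IsNilpotent P) (hlt : D < P) :
    D < Subgroup.normalizer (D : Set G) ⊓ P := by
  refine lt_of_le_of_ne (le_inf Subgroup.le_normalizer hlt.le) fun he => ?_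
  have h1 : D.subgroupOf P < ⊤ :=
    lt_top_iff_ne_top.2 fun h => not_le_of_gt hlt (Subgroup.subgroupOf_eq_top.1 h)
  refine ne_of_lt (normalizerCondition_of_isNilpotent _ h1) ?_
  rw [← Subgroup.subgroupOf_normalizer_eq hlt.le]
  refine le_antisymm ?_ ?_
  · intro x hx
    exact Subgroup.le_normalizer hx
  · intro x hx
    have : (x : G) ∈ Subgroup.normalizer (D : Set G) ⊓ P := ⟨hx, x.2⟩
    rw [← he] at this
    exact this

end Cfsg.Agent.Lib.Cores.Normalizer
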