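import Mathlib.GroupTheory.IsSubnormal
import Mathlib.GroupTheory.Index
import Mathlib.GroupTheory.QuotientGroup.Basic
import Mathlib.Algebra.Group.Subgroup.Pointwise
import Mathlib.Data.Fintype.Lattice
import Mathlib.Order.Atoms.Finite
import Mathlib.Tactic

/-!
# Joins of subnormal subgroups, the zipper lemma, Wielandt's criterion
-/

set_option autoImplicit false
set_option linter.style.haveILetI false

open scoped Pointwise

namespace Cfsg.Agent.Lib.Cores.Subnormal

universe u

variable {G : Type u} [Group G]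

theorem card_lt_of_ne_top [Finite G] {H : Subgroup G} (h : H ≠ ⊤) : Nat.card H < Nat.card G := by
  rw [← H.index_mul_card]
  exact lt_mul_of_one_lt_left Nat.card_pos (Subgroup.one_lt_index_of_ne_top h)

theorem sup_of_normal {N K : Subgroup G} [N.Normal] (hK : K.IsSubnormal) :
    (N ⊔ K).IsSubnormal := by
  have h := (hK.quotient (K := N)).comap (QuotientGroup.mk' N)
  rwa [Subgroup.comap_map_eq, QuotientGroup.ker_mk', sup_comm] at h

/-- `K` normalizing a join of conjugates: conjugation moves conjugates to conjugates. -/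
theorem le_normalizer_iSup_conj {ι : Type*} (f : ι → Subgroup G) {K : Subgroup G}
    (h : ∀ k ∈ K, ∀ i, ∃ j, MulAut.conj k • f i = f j) :
    K ≤ Subgroup.normalizer ((⨆ i, f i : Subgroup G) : Set G) := by
  refine Subgroup.le_normalizer_iff.2 fun k hk x hx => ?_
  have h1 : MulAut.conj k • x ∈ MulAut.conj k • (⨆ i, f i : Subgroup G) :=
    Subgroup.smul_mem_pointwise_smul x _ _ hx
  have h2 : MulAut.conj k • (⨆ i, f i : Subgroup G) ≤ ⨆ i, f i := by
    rw [Subgroup.pointwise_smul_subset_iff]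
    refine iSup_le fun i => ?_
    obtain ⟨j, hj⟩ := h k hk i
    exact Subgroup.pointwise_smul_subset_iff.1 (le_trans (le_of_eq hj) (le_iSup f j))
  exact h2 h1

theorem sup_of_le_normalizer_aux (n : ℕ) : ∀ (G : Type u) [Group G] [Finite G] (L K : Subgroup G),
    Nat.card G = n → L.IsSubnormal → K.IsSubnormal →
      K ≤ Subgroup.normalizer (L : Set G) → (L ⊔ K).IsSubnormal := by
  induction n using Nat.strong_induction_on with
  | _ n ih =>
  intro G _ _ L K hn hL hK hle
  set M := Subgroup.normalClosure (L : Set G) with hM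
  have hLM : L ≤ M := Subgroup.le_normalClosure
  by_cases hJ : M ⊔ K = ⊤
  · suffices hLn : L.Normal by exact sup_of_normal hK
    by_cases hLeq : L = M
    · rw [hLeq]; exact Subgroup.normalClosure_normal
    exfalso
    have hne : L.subgroupOf M ≠ ⊤ := fun h => hLeq (le_antisymm hLM (Subgroup.subgroupOf_eq_top.1 h))
    rcases (hL.subgroupOf (K := M)).lt_normal with h | ⟨T, hT, hLT, hTlt⟩
    · exact hne h
    let f : M → Subgroup G := fun m => MulAut.conj (m : G) • L
    have hL2 : L ≤ ⨆ m, f m := le_iSup_of_le 1 (by simp [f])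
    have hnorm : ((⨆ m, f m : Subgroup G)).Normal := by
      rw [← Subgroup.normalizer_eq_top_iff, ← top_le_iff, ← hJ]
      refine sup_le (le_normalizer_iSup_conj f fun k hk i => ?_)
        (le_normalizer_iSup_conj f fun k hk i => ?_)
      · exact ⟨⟨k, hk⟩ * i, by simp [f, mul_smul]⟩
      · refine ⟨⟨k * i * k⁻¹, (Subgroup.normalClosure_normal (s := (L : Set G))).conj_mem _ i.2 k⟩, ?_⟩
        have hfix : MulAut.conj k⁻¹ • L = L :=
          Subgroup.mem_normalizer_iff_map_conj_eq.1 (inv_mem (hle hk))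
        show MulAut.conj k • MulAut.conj (i : G) • L = MulAut.conj (k * i * k⁻¹) • L
        rw [map_mul, map_mul, mul_smul, mul_smul, hfix]
    have hle2 : (⨆ m, f m : Subgroup G) ≤ T.map M.subtype := by
      refine iSup_le fun m => ?_
      rintro _ ⟨l, hl, rfl⟩
      refine ⟨m * ⟨l, hLM hl⟩ * m⁻¹, hT.conj_mem _ (hLT hl) m, ?_⟩
      simp
    have hMle : M ≤ T.map M.subtype := by
      haveI := hnorm
      exact le_trans (Subgroup.normalClosure_le_normal hL2) hle2
    exact hTlt.ne (top_le_iff.1 fun x _ => by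
      obtain ⟨y, hy, hye⟩ := hMle x.2
      exact Subtype.ext hye ▸ hy)
  · have hKJ : K ≤ M ⊔ K := le_sup_right
    have hLJ : L ≤ M ⊔ K := hLM.trans le_sup_left
    have hlt := card_lt_of_ne_top hJ
    have hN : (M ⊔ K).IsSubnormal := sup_of_normal hK
    have h1 := ih _ (hn ▸ hlt) (M ⊔ K : Subgroup G) (L.subgroupOf (M ⊔ K)) (K.subgroupOf (M ⊔ K)) rfl
      hL.subgroupOf hK.subgroupOf (by
        rw [← Subgroup.subgroupOf_normalizer_eq hLJ]
        exact fun x hx => hle hx)
    rw [← Subgroup.subgroupOf_sup hLJ hKJ] at h1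
    exact Subgroup.IsSubnormal.trans (sup_le hLJ hKJ) h1 hN

/-- The product of two subnormal subgroups, one normalizing the other, is subnormal. -/
theorem sup_of_le_normalizer [Finite G] {L K : Subgroup G} (hL : L.IsSubnormal)
    (hK : K.IsSubnormal) (hle : K ≤ Subgroup.normalizer (L : Set G)) : (L ⊔ K).IsSubnormal :=
  sup_of_le_normalizer_aux _ G L K rfl hL hK hle

theorem sup_aux (n : ℕ) : ∀ (G : Type u) [Group G] [Finite G] (H K : Subgroup G),
    Nat.card G = n → H.IsSubnormal → K.IsSubnormal → (H ⊔ K).IsSubnormal := by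
  induction n using Nat.strong_induction_on with
  | _ n ih =>
  intro G _ _ H K hn hH hK
  rcases hH.lt_normal with rfl | ⟨M, hM, hHM, hMlt⟩
  · simp
  classical
  haveI := Fintype.ofFinite K
  let f : K → Subgroup G := fun k => MulAut.conj (k : G) • H
  have hfM : ∀ k, f k ≤ M := by
    intro k
    rintro _ ⟨x, hx, rfl⟩
    exact hM.conj_mem x (hHM hx) k
  have key : ∀ s : Finset K, (s.sup f).IsSubnormal ∧ s.sup f ≤ M := by
    intro s
    induction s using Finset.induction_on with
    | empty => simp [Subgroup.IsSubnormal.bot]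
    | insert a s _ hs =>
      rw [Finset.sup_insert]
      refine ⟨?_, sup_le (hfM a) hs.2⟩
      have h1 := ih _ (hn ▸ card_lt_of_ne_top hMlt.ne) M ((f a).subgroupOf M) ((s.sup f).subgroupOf M)
        rfl (hH.smul _).subgroupOf hs.1.subgroupOf
      rw [← Subgroup.subgroupOf_sup (hfM a) hs.2] at h1
      exact Subgroup.IsSubnormal.trans (sup_le (hfM a) hs.2) h1 hM.isSubnormal
  have hsn : (⨆ k, f k : Subgroup G).IsSubnormal := by
    rw [← Finset.sup_univ_eq_iSup]
    exact (key _).1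
  have hnorm : K ≤ Subgroup.normalizer ((⨆ k, f k : Subgroup G) : Set G) :=
    le_normalizer_iSup_conj f fun k hk i => ⟨⟨k, hk⟩ * i, by simp [f, mul_smul]⟩
  have heq : (⨆ k, f k) ⊔ K = H ⊔ K := by
    refine le_antisymm (sup_le (iSup_le fun k => ?_) le_sup_right)
      (sup_le (le_sup_of_le_left (le_iSup_of_le 1 (by simp [f]))) le_sup_right)
    rintro _ ⟨x, hx, rfl⟩
    exact mul_mem (mul_mem (Subgroup.mem_sup_right k.2) (Subgroup.mem_sup_left hx))
      (inv_mem (Subgroup.mem_sup_right k.2))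
  rw [← heq]
  exact sup_of_le_normalizer hsn hK hnorm

/-- Wielandt's join theorem. -/
theorem sup [Finite G] {H K : Subgroup G} (hH : H.IsSubnormal) (hK : K.IsSubnormal) :
    (H ⊔ K).IsSubnormal :=
  sup_aux _ G H K rfl hH hK

/-- If a subnormal subgroup is not normal, a conjugate different from it lies in its normalizer. -/
theorem exists_conj_le_normalizer [Finite G] {A : Subgroup G} (hA : A.IsSubnormal)
    (hn : ¬ A.Normal) :
    ∃ c : G, MulAut.conj c • A ≠ A ∧ MulAut.conj c • A ≤ Subgroup.normalizer (A : Set G) := by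
  let S := {B : Subgroup G | B.IsSubnormal ∧ A ≤ B ∧ B ≤ Subgroup.normalizer (A : Set G)}
  obtain ⟨B, hB⟩ := (Set.toFinite S).exists_maximal ⟨A, hA, le_rfl, Subgroup.le_normalizer⟩
  rcases Subgroup.IsSubnormal.iff_eq_top_or_exists.1 hB.1.1 with rfl | ⟨C, hBC, hC, hnC⟩
  · exact absurd (Subgroup.normalizer_eq_top_iff.1 (top_le_iff.1 hB.1.2.2)) hn
  have hCn : ¬ C ≤ Subgroup.normalizer (A : Set G) := fun h =>
    (not_le_of_gt hBC) (hB.2 ⟨hC, hB.1.2.1.trans hBC.le, h⟩ hBC.le)
  obtain ⟨c, hcC, hcA⟩ := SetLike.not_le_iff_exists.1 hCn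
  refine ⟨c, fun h => hcA (Subgroup.mem_normalizer_iff_map_conj_eq.2 h), ?_⟩
  rintro _ ⟨a, ha, rfl⟩
  refine hB.1.2.2 ?_
  exact Subgroup.le_normalizer_iff.1
    ((Subgroup.normal_subgroupOf_iff_le_normalizer hBC.le).1 hnC) c hcC a (hB.1.2.1 ha)

/-- The conjugate of a subgroup subnormal in each proper overgroup has the same property. -/
theorem conj_subnormal_in_proper {A : Subgroup G}
    (h : ∀ H : Subgroup G, H ≠ ⊤ → A ≤ H → (A.subgroupOf H).IsSubnormal) (c : G)
    (H : Subgroup G) (hH : H ≠ ⊤) (hle : MulAut.conj c • A ≤ H) :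
    ((MulAut.conj c • A).subgroupOf H).IsSubnormal := by
  have hle' : A ≤ MulAut.conj c⁻¹ • H := fun a ha => by
    rw [map_inv, Subgroup.mem_pointwise_smul_iff_inv_smul_mem, inv_inv]
    exact hle (Subgroup.smul_mem_pointwise_smul a _ _ ha)
  have hne : MulAut.conj c⁻¹ • H ≠ ⊤ := fun h' => hH <| top_le_iff.1 fun x _ => by
    have : MulAut.conj c⁻¹ • x ∈ MulAut.conj c⁻¹ • H := h' ▸ Subgroup.mem_top _
    exact Subgroup.smul_mem_pointwise_smul_iff.1 this
  let φ : H →* (MulAut.conj c⁻¹ • H : Subgroup G) :=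
    ((MulAut.conj c⁻¹).toMonoidHom.comp H.subtype).codRestrict _ fun x =>
      Subgroup.smul_mem_pointwise_smul (x : G) _ _ x.2
  have h1 := (h _ hne hle').comap φ
  refine (congrArg Subgroup.IsSubnormal ?_).mp h1
  ext x
  rw [Subgroup.mem_comap, Subgroup.mem_subgroupOf, Subgroup.mem_subgroupOf,
    Subgroup.mem_pointwise_smul_iff_inv_smul_mem, ← map_inv]
  rfl

theorem zipper_aux [Finite G] (n : ℕ) : ∀ A : Subgroup G, A.index = n →
    (∀ H : Subgroup G, H ≠ ⊤ → A ≤ H → (A.subgroupOf H).IsSubnormal) → ¬ A.IsSubnormal →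
    ∃ M : Subgroup G, IsCoatom M ∧ A ≤ M ∧ ∀ K : Subgroup G, IsCoatom K → A ≤ K → K = M := by
  induction n using Nat.strong_induction_on with
  | _ n ih =>
  intro A hn h hnot
  have hN : Subgroup.normalizer (A : Set G) ≠ ⊤ := fun ht =>
    hnot (Subgroup.normalizer_eq_top_iff.1 ht).isSubnormal
  obtain ⟨M, hM, hNM⟩ := (eq_top_or_exists_le_coatom _).resolve_left hN
  refine ⟨M, hM, Subgroup.le_normalizer.trans hNM, fun K hK hAK => ?_⟩
  by_cases hnorm : (A.subgroupOf K).Normal
  · have hKM : K ≤ M := ((Subgroup.normal_subgroupOf_iff_le_normalizer hAK).1 hnorm).trans hNM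
    exact ((hK.le_iff.1 hKM).resolve_left hM.1).symm
  obtain ⟨c, hc1, hc2⟩ := exists_conj_le_normalizer (h K hK.1 hAK) hnorm
  set A' := MulAut.conj (c : G) • A with hA'
  have hA'K : A' ≤ K := by
    rintro _ ⟨a, ha, rfl⟩
    exact K.mul_mem (K.mul_mem c.2 (hAK ha)) (K.inv_mem c.2)
  have hA'N : A' ≤ Subgroup.normalizer (A : Set G) := by
    rintro _ ⟨a, ha, rfl⟩
    have h1 : MulAut.conj c • (⟨a, hAK ha⟩ : K) ∈ Subgroup.normalizer (A.subgroupOf K : Set K) :=
      hc2 (Subgroup.smul_mem_pointwise_smul (⟨a, hAK ha⟩ : K) _ _ ha)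
    rw [← Subgroup.subgroupOf_normalizer_eq hAK] at h1
    exact h1
  have hlt : A < A ⊔ A' := by
    refine lt_of_le_of_ne le_sup_left fun he => hc1 ?_
    have hle : A' ≤ A := he ▸ le_sup_right
    have heq : A' = A := Subgroup.eq_of_le_of_card_ge hle
      (le_of_eq (Nat.card_congr (Subgroup.equivSMul (MulAut.conj (c : G)) A).toEquiv))
    ext x
    rw [Subgroup.mem_pointwise_smul_iff_inv_smul_mem, Subgroup.mem_subgroupOf,
      Subgroup.mem_subgroupOf]
    conv_rhs => rw [← heq, hA', Subgroup.mem_pointwise_smul_iff_inv_smul_mem]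
    rw [← map_inv, ← map_inv]
    rfl
  have hT : ∀ H : Subgroup G, H ≠ ⊤ → A ⊔ A' ≤ H → ((A ⊔ A').subgroupOf H).IsSubnormal := by
    intro H hH hle
    rw [Subgroup.subgroupOf_sup (le_sup_left.trans hle) (le_sup_right.trans hle)]
    exact sup (h H hH (le_sup_left.trans hle))
      (conj_subnormal_in_proper h c H hH (le_sup_right.trans hle))
  have hTn : ¬ (A ⊔ A').IsSubnormal := fun hs => hnot <|
    Subgroup.IsSubnormal.trans le_sup_left
      ((Subgroup.normal_subgroupOf_iff_le_normalizer le_sup_left).2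
        (sup_le Subgroup.le_normalizer hA'N)).isSubnormal hs
  obtain ⟨M₀, -, -, huniq⟩ := ih _ (hn ▸ Subgroup.index_strictAnti hlt) (A ⊔ A') rfl hT hTn
  rw [huniq K hK (sup_le hAK hA'K),
    huniq M hM (sup_le (Subgroup.le_normalizer.trans hNM) (hA'N.trans hNM))]

/-- The zipper lemma. -/
theorem zipper [Finite G] {A : Subgroup G}
    (h : ∀ H : Subgroup G, H ≠ ⊤ → A ≤ H → (A.subgroupOf H).IsSubnormal) (hnot : ¬ A.IsSubnormal) :
    ∃ M : Subgroup G, IsCoatom M ∧ A ≤ M ∧ ∀ K : Subgroup G, IsCoatom K → A ≤ K → K = M :=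
  zipper_aux _ A rfl h hnot

theorem wielandt_aux (n : ℕ) : ∀ (G : Type u) [Group G] [Finite G] (A : Subgroup G), Nat.card G = n →
    (∀ g : G, (A.subgroupOf (A ⊔ MulAut.conj g • A)).IsSubnormal) → A.IsSubnormal := by
  induction n using Nat.strong_induction_on with
  | _ n ih =>
  intro G _ _ A hn h
  by_contra hnot
  have hprop : ∀ H : Subgroup G, H ≠ ⊤ → A ≤ H → (A.subgroupOf H).IsSubnormal := by
    intro H hH hle
    refine ih _ (hn ▸ card_lt_of_ne_top hH) H (A.subgroupOf H) rfl fun g => ?_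
    set T : Subgroup H := A.subgroupOf H ⊔ MulAut.conj g • A.subgroupOf H with hT
    have hmap : ∀ x ∈ T, (x : G) ∈ A ⊔ MulAut.conj (g : G) • A := by
      intro x hx
      have h1 : T ≤ (A ⊔ MulAut.conj (g : G) • A).subgroupOf H := by
        refine sup_le (fun y hy => Subgroup.mem_sup_left hy) fun y hy => Subgroup.mem_sup_right ?_
        obtain ⟨z, hz, rfl⟩ := hy
        exact Subgroup.smul_mem_pointwise_smul (z : G) _ _ hz
      exact h1 hx
    let φ : T →* (A ⊔ MulAut.conj (g : G) • A : Subgroup G) :=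
      (H.subtype.comp T.subtype).codRestrict _ fun x => hmap x x.2
    exact (h g).comap φ
  obtain ⟨M, hM, hAM, huniq⟩ := zipper hprop hnot
  have hconj : ∀ g : G, MulAut.conj g • A ≤ M := by
    intro g
    by_cases ht : A ⊔ MulAut.conj g • A = ⊤
    · refine absurd ?_ hnot
      exact Subgroup.IsSubnormal.trans le_sup_left (h g) (ht ▸ Subgroup.IsSubnormal.top)
    · obtain ⟨K, hK, hle⟩ := (eq_top_or_exists_le_coatom _).resolve_left ht
      rw [← huniq K hK (le_sup_left.trans hle)]
      exact le_sup_right.trans hle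
  have hNM : Subgroup.normalClosure (A : Set G) ≤ M := by
    refine (Subgroup.closure_le M).2 fun x hx => ?_
    obtain ⟨a, ha, hc⟩ := Group.mem_conjugatesOfSet_iff.1 hx
    obtain ⟨g, rfl⟩ := isConj_iff.1 hc
    exact hconj g (Subgroup.smul_mem_pointwise_smul a _ _ ha)
  have hne : Subgroup.normalClosure (A : Set G) ≠ ⊤ := fun ht => hM.1 (top_le_iff.1 (ht ▸ hNM))
  exact hnot (Subgroup.IsSubnormal.trans Subgroup.le_normalClosure
    (hprop _ hne Subgroup.le_normalClosure) Subgroup.normalClosure_normal.isSubnormal)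

/-- Wielandt's criterion: `A` subnormal in each `⟨A, A^g⟩` is subnormal. -/
theorem wielandt [Finite G] {A : Subgroup G}
    (h : ∀ g : G, (A.subgroupOf (A ⊔ MulAut.conj g • A)).IsSubnormal) : A.IsSubnormal :=
  wielandt_aux _ G A rfl h

end Cfsg.Agent.Lib.Cores.Subnormal
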