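import Cfsg.Agent.Lib.Cores.Basic
import Cfsg.Agent.Lib.Cores.MinNormal
import Cfsg.Agent.Lib.Hall.Basic
import Cfsg.Agent.Lib.Coprime.Conjugacy

/-!
# Carter subgroups of finite solvable groups

`IsCarterPair C` = nilpotent and self-normalizing. Existence, conjugacy, images in quotients.
-/

set_option autoImplicit false
set_option linter.style.haveILetI false

open scoped Pointwise
open Cfsg

namespace Cfsg.Agent.Lib.Cores.Carter

universe u

variable {G : Type u} [Group G]

/-- Nilpotent and self-normalizing. -/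
def IsCarterPair (C : Subgroup G) : Prop :=
  Group.IsNilpotent C ∧ Subgroup.normalizer (C : Set G) = C

theorem eq_top_of_isNilpotent [Group.IsNilpotent G] {C : Subgroup G} (hC : IsCarterPair C) :
    C = ⊤ :=
  (normalizerCondition_iff_only_full_group_self_normalizing.1
    normalizerCondition_of_isNilpotent) C hC.2

theorem subgroupOf_carter {C H : Subgroup G} (hC : IsCarterPair C) (hle : C ≤ H) :
    IsCarterPair (C.subgroupOf H) := by
  refine ⟨?_, ?_⟩
  · haveI := hC.1
    exact Group.nilpotent_of_mulEquiv (Subgroup.subgroupOfEquivOfLe hle).symm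
  · rw [← Subgroup.subgroupOf_normalizer_eq hle, hC.2]

theorem conj_carter {C : Subgroup G} (hC : IsCarterPair C) (g : G) :
    IsCarterPair (MulAut.conj g • C) := by
  refine ⟨?_, ?_⟩
  · haveI := hC.1
    exact Group.nilpotent_of_mulEquiv (Subgroup.equivSMul (MulAut.conj g) C)
  · conv_rhs => rw [← hC.2]
    exact (Subgroup.map_equiv_normalizer_eq C (MulAut.conj g)).symm

/-- `G` embeds in `G/N × G/M` when `N ⊓ M = ⊥`. -/
theorem isNilpotent_of_inf_eq_bot {N M : Subgroup G} [N.Normal] [M.Normal] (h : N ⊓ M = ⊥)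
    (hN : Group.IsNilpotent (G ⧸ N)) (hM : Group.IsNilpotent (G ⧸ M)) : Group.IsNilpotent G := by
  let f := (QuotientGroup.mk' N).prod (QuotientGroup.mk' M)
  have hinj : Function.Injective f := by
    rw [← MonoidHom.ker_eq_bot_iff, MonoidHom.ker_prod, QuotientGroup.ker_mk',
      QuotientGroup.ker_mk', h]
  exact Group.nilpotent_of_mulEquiv (MonoidHom.ofInjective hinj).symm

theorem card_lt_card [Finite G] {H : Subgroup G} (h : H ≠ ⊤) : Nat.card H < Nat.card G := by
  rw [← H.index_mul_card]
  exact lt_mul_of_one_lt_left Nat.card_pos (Subgroup.one_lt_index_of_ne_top h)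

/-- Conjugacy of Carter subgroups in all solvable groups of order less than `n`. -/
def ConjBelow (n : ℕ) : Prop :=
  ∀ (G : Type u) [Group G] [Finite G] [Group.IsSolvable G], Nat.card G < n →
    ∀ C D : Subgroup G, IsCarterPair C → IsCarterPair D → ∃ g : G, MulAut.conj g • C = D

/-- Conjugacy inside a proper overgroup. -/
theorem conj_in [Finite G] [Group.IsSolvable G] {n : ℕ} (hn : Nat.card G ≤ n)
    (hcj : ConjBelow.{u} n) {C D H : Subgroup G} (hH : H ≠ ⊤) (hC : IsCarterPair C)
    (hD : IsCarterPair D) (hCH : C ≤ H) (hDH : D ≤ H) : ∃ g ∈ H, MulAut.conj g • C = D := by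
  obtain ⟨⟨g, hg⟩, hgC⟩ := hcj H (lt_of_lt_of_le (card_lt_card hH) hn) _ _
    (subgroupOf_carter hC hCH) (subgroupOf_carter hD hDH)
  refine ⟨g, hg, ?_⟩
  have h1 := congrArg (Subgroup.map H.subtype) hgC
  rw [Subgroup.map_subgroupOf_eq_of_le hDH] at h1
  rw [← h1]
  ext x
  constructor
  · rintro ⟨c, hc, rfl⟩
    exact ⟨_, ⟨⟨c, hCH hc⟩, hc, rfl⟩, rfl⟩
  · rintro ⟨_, ⟨y, hy, rfl⟩, rfl⟩
    exact ⟨(y : G), hy, rfl⟩

/-- `CN` is self-normalizing. -/
theorem normalizer_sup [Finite G] [Group.IsSolvable G] {n : ℕ} (hn : Nat.card G ≤ n)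
    (hcj : ConjBelow.{u} n) {C N : Subgroup G} [N.Normal] (hC : IsCarterPair C) :
    Subgroup.normalizer ((C ⊔ N : Subgroup G) : Set G) = C ⊔ N := by
  by_cases h : C ⊔ N = ⊤
  · rw [h]; exact Subgroup.normalizer_eq_top_iff.2 inferInstance
  refine le_antisymm (fun g hg => ?_) Subgroup.le_normalizer
  have hle : MulAut.conj g • C ≤ C ⊔ N := by
    rintro _ ⟨c, hc, rfl⟩
    exact (Subgroup.mem_normalizer_iff.1 hg c).1 (Subgroup.mem_sup_left hc)
  obtain ⟨x, hx, hxC⟩ := conj_in hn hcj h hC (conj_carter hC g) le_sup_left hle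
  have h1 : g⁻¹ * x ∈ Subgroup.normalizer (C : Set G) := by
    refine Subgroup.mem_normalizer_iff_map_conj_eq.2 ?_
    show MulAut.conj (g⁻¹ * x) • C = C
    rw [map_mul, mul_smul, hxC, map_inv, inv_smul_smul]
  rw [hC.2] at h1
  have h2 : g = x * (g⁻¹ * x)⁻¹ := by group
  rw [h2]
  exact Subgroup.mul_mem _ hx (Subgroup.mem_sup_left (Subgroup.inv_mem _ h1))

/-- Images of Carter subgroups are Carter subgroups. -/
theorem map_carter [Finite G] [Group.IsSolvable G] {n : ℕ} (hn : Nat.card G ≤ n)
    (hcj : ConjBelow.{u} n) {C N : Subgroup G} [N.Normal] (hC : IsCarterPair C) :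
    IsCarterPair (C.map (QuotientGroup.mk' N)) := by
  refine ⟨isNilpotent_map _ hC.1, ?_⟩
  apply Subgroup.comap_injective (QuotientGroup.mk'_surjective N)
  rw [Subgroup.comap_normalizer_eq_of_surjective _ (QuotientGroup.mk'_surjective N),
    Subgroup.comap_map_eq, QuotientGroup.ker_mk']
  exact normalizer_sup hn hcj hC

/-- The case of two complements of an abelian minimal normal subgroup. -/
theorem conj_of_complements [Finite G] [Group.IsSolvable G] {C D N : Subgroup G} [N.Normal]
    (hNne : N ≠ ⊥) (hmin : ∀ M : Subgroup G, M.Normal → M ≤ N → M = ⊥ ∨ M = N)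
    (hC : IsCarterPair C) (hD : IsCarterPair D) (hCt : C ⊔ N = ⊤) (hDt : D ⊔ N = ⊤) :
    ∃ g : G, MulAut.conj g • C = D := by
  by_cases hnil : Group.IsNilpotent G
  · exact ⟨1, by rw [map_one, one_smul, eq_top_of_isNilpotent hC, eq_top_of_isNilpotent hD]⟩
  obtain ⟨hab, p, hp, hexp⟩ := MinNormal.elementary_of_solvable hNne hmin
  haveI := hab
  haveI := Fact.mk hp
  have hNp : IsPGroup p N := MinNormal.isPGroup_of_pow_eq_one hexp
  have comp : ∀ C : Subgroup G, IsCarterPair C → C ⊔ N = ⊤ →
      C ≠ ⊤ ∧ N ⊓ C = ⊥ ∧ Subgroup.IsComplement' N C ∧ (∀ T, C ≤ T → T = C ∨ T = ⊤) := by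
    intro C hC hCt
    have hne : C ≠ ⊤ := fun h => hnil (Group.isNilpotent_top.1 (h ▸ hC.1))
    have hnorm : ∀ T : Subgroup G, C ≤ T → (N ⊓ T).Normal := by
      intro T hCT
      rw [← Subgroup.normalizer_eq_top_iff, ← top_le_iff, ← hCt]
      refine sup_le (Subgroup.le_normalizer_iff.2 fun m hm k hk => ?_)
        (Subgroup.le_normalizer_iff.2 fun n hn k hk => ?_)
      · exact ⟨Subgroup.Normal.conj_mem ‹N.Normal› k hk.1 m,
          T.mul_mem (T.mul_mem (hCT hm) hk.2) (T.inv_mem (hCT hm))⟩
      · have h1 : n * k = k * n := congrArg Subtype.val (mul_comm' (⟨n, hn⟩ : N) ⟨k, hk.1⟩)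
        rwa [h1, mul_inv_cancel_right]
    have hbot : N ⊓ C = ⊥ := (hmin _ (hnorm C le_rfl) inf_le_left).resolve_right fun h => by
      have hle : N ≤ C := h ▸ inf_le_right
      rw [sup_eq_left.2 hle] at hCt
      exact hne hCt
    have hc : Subgroup.IsComplement' N C := Lib.Hall.isComplement'_of_normal hbot
      (by rw [sup_comm]; exact hCt)
    refine ⟨hne, hbot, hc, fun T hT => ?_⟩
    rcases hmin _ (hnorm T hT) inf_le_left with h | h
    · left
      refine le_antisymm (fun t ht => ?_) hT
      obtain ⟨⟨⟨a, ha⟩, ⟨c, hc'⟩⟩, he⟩ := hc.2 t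
      have he' : a * c = t := he
      have : a ∈ N ⊓ T := ⟨ha, by
        have := T.mul_mem ht (T.inv_mem (hT hc'))
        rwa [← he', mul_inv_cancel_right] at this⟩
      rw [h, Subgroup.mem_bot] at this
      rw [← he', this, one_mul]
      exact hc'
    · right
      rw [eq_top_iff, ← hCt]
      exact sup_le hT (h ▸ inf_le_right)
  obtain ⟨n, hn⟩ := IsPGroup.iff_card.1 hNp
  let π : Set ℕ := {q | q ≠ p}
  have hall : ∀ C : Subgroup G, IsCarterPair C → C ⊔ N = ⊤ →
      IsPiHall π ((pPrimeCore p C).map C.subtype) := by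
    intro C hC hCt
    obtain ⟨_, _, hc, _⟩ := comp C hC hCt
    refine ⟨fun q _ hd hqp => ?_, fun q hq hqp hd => hqp ?_⟩
    · rw [Subgroup.card_subtype] at hd
      exact not_dvd_card_pPrimeCore (G := C) p (hqp ▸ hd)
    · rw [Subgroup.index_map_subtype, hc.index_eq_card, hn] at hd
      rcases hq.dvd_mul.1 hd with h | h
      · haveI := hC.1
        have htop : pCore p C ⊔ pPrimeCore p C = ⊤ := by
          rw [eq_top_iff, ← (fittingSubgroup_eq_top_iff.2 hC.1 : fittingSubgroup C = ⊤),
            fittingSubgroup_eq_iSup_pCore]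
          refine iSup_le fun r => ?_
          by_cases hr : (r : ℕ) = p
          · rw [hr]; exact le_sup_left
          · haveI : Fact (r : ℕ).Prime := ⟨r.2⟩
            refine le_trans (le_pPrimeCore_of_not_dvd ?_) le_sup_right
            obtain ⟨k, hk⟩ := IsPGroup.iff_card.1 (pCore_isPGroup (G := C) (r : ℕ))
            rw [hk]
            exact fun hd' => hr ((Nat.prime_dvd_prime_iff_eq hp r.2).1 (hp.dvd_of_dvd_pow hd')).symm
        obtain ⟨k, hk⟩ := IsPGroup.iff_card.1 (pCore_isPGroup (G := C) p)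
        have h1 : (pPrimeCore p C).index ∣ p ^ k := by
          rw [← Subgroup.relIndex_top_right, ← htop, Subgroup.relIndex_sup_right, ← hk]
          exact Subgroup.relIndex_dvd_card _ _
        exact (Nat.prime_dvd_prime_iff_eq hq hp).1 (hq.dvd_of_dvd_pow (h.trans h1))
      · exact (Nat.prime_dvd_prime_iff_eq hq hp).1 (hq.dvd_of_dvd_pow h)
  set QC := (pPrimeCore p C).map C.subtype with hQC
  set QD := (pPrimeCore p D).map D.subtype with hQD
  obtain ⟨g, hg⟩ := Lib.Hall.exists_conj_eq (hall C hC hCt) (hall D hD hDt)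
  refine ⟨g, ?_⟩
  have hnormC : ∀ C : Subgroup G, C ≤ Subgroup.normalizer
      (((pPrimeCore p C).map C.subtype : Subgroup G) : Set G) := by
    intro C x hx
    exact Subgroup.le_normalizer_map (H := pPrimeCore p C) C.subtype
      ⟨⟨x, hx⟩, by simp [Subgroup.normalizer_eq_top], rfl⟩
  have hgC : MulAut.conj g • C ≤ Subgroup.normalizer (QD : Set G) := by
    rw [show QD = MulAut.conj g • QC from hg.symm]
    refine le_trans ?_ (le_of_eq (Subgroup.map_equiv_normalizer_eq QC (MulAut.conj g)))
    exact Subgroup.map_mono (hnormC C)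
  have hDn : D ≤ Subgroup.normalizer (QD : Set G) := hnormC D
  have hQn : Subgroup.normalizer (QD : Set G) ≠ ⊤ := by
    intro h
    haveI : QD.Normal := Subgroup.normalizer_eq_top_iff.1 h
    obtain ⟨_, hbot, hc, _⟩ := comp D hD hDt
    have hQN : N ⊓ QD = ⊥ := le_bot_iff.1 (hbot ▸ inf_le_inf le_rfl (Subgroup.map_subtype_le _))
    refine hnil (isNilpotent_of_inf_eq_bot hQN ?_ ?_)
    · haveI := hD.1
      exact Group.nilpotent_of_mulEquiv (hc.symm.QuotientMulEquiv : _ ≃* _).symm
    · have hidx : ∃ k, Nat.card (G ⧸ QD) = p ^ k := by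
        refine ⟨_, Nat.eq_prime_pow_of_unique_prime_dvd Nat.card_pos.ne' fun {q} hq hd => ?_⟩
        rw [← Subgroup.index_eq_card] at hd
        by_contra hqp
        exact (hall D hD hDt).2 q hq hqp hd
      obtain ⟨k, hk⟩ := hidx
      exact (IsPGroup.of_card hk).isNilpotent
  have h1 := ((comp D hD hDt).2.2.2 _ hDn).resolve_right hQn
  have hgt : MulAut.conj g • C ⊔ N = ⊤ := by
    have := congrArg (MulAut.conj g • ·) hCt
    simp only [Subgroup.smul_sup] at this
    rw [show MulAut.conj g • N = N from Subgroup.Normal.conjAct ‹N.Normal› (ConjAct.toConjAct g)] at this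
    rw [this]
    exact top_le_iff.1 fun x _ => by
      rw [Subgroup.mem_pointwise_smul_iff_inv_smul_mem]; trivial
  have h2 := ((comp _ (conj_carter hC g) hgt).2.2.2 _ hgC).resolve_right hQn
  exact h2.symm.trans h1

theorem conjBelow (n : ℕ) : ConjBelow.{u} n := by
  induction n with
  | zero => intro G _ _ _ h; exact absurd h (Nat.not_lt_zero _)
  | succ n ih =>
    intro G _ _ _ hlt C D hC hD
    have hn : Nat.card G ≤ n := Nat.lt_succ_iff.1 hlt
    by_cases hG : Subsingleton G
    · exact ⟨1, by rw [map_one, one_smul]; exact Subsingleton.elim _ _⟩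
    haveI : Nontrivial G := not_subsingleton_iff_nontrivial.1 hG
    obtain ⟨N, hN, hNne, hmin⟩ := MinNormal.exists_minimal (G := G)
    haveI := hN
    haveI : Group.IsSolvable (G ⧸ N) :=
      Group.isSolvable_of_surjective (QuotientGroup.mk'_surjective N)
    have hq : Nat.card (G ⧸ N) < n := by
      refine lt_of_lt_of_le ?_ hn
      rw [Subgroup.card_eq_card_quotient_mul_card_subgroup N]
      exact lt_mul_of_one_lt_right Nat.card_pos ((Subgroup.one_lt_card_iff_ne_bot N).2 hNne)
    obtain ⟨y, hy⟩ := ih (G ⧸ N) hq _ _ (map_carter (N := N) hn ih hC) (map_carter (N := N) hn ih hD)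
    obtain ⟨x, rfl⟩ := QuotientGroup.mk'_surjective N y
    rw [← Lib.Coprime.map_conj_smul] at hy
    have hxD : MulAut.conj x • C ⊔ N = D ⊔ N := by
      have := congrArg (Subgroup.comap (QuotientGroup.mk' N)) hy
      rwa [Subgroup.comap_map_eq, Subgroup.comap_map_eq, QuotientGroup.ker_mk'] at this
    suffices ∃ g, MulAut.conj g • MulAut.conj x • C = D by
      obtain ⟨g, hg⟩ := this
      exact ⟨g * x, by rw [map_mul, mul_smul, hg]⟩
    by_cases htop : D ⊔ N = ⊤
    · exact conj_of_complements hNne hmin (conj_carter hC x) hD (hxD.trans htop) htop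
    · obtain ⟨g, -, hg⟩ := conj_in hn ih htop (conj_carter hC x) hD
        (hxD ▸ le_sup_left) le_sup_left
      exact ⟨g, hg⟩

/-- Carter subgroups of a finite solvable group are conjugate. -/
theorem exists_conj [Finite G] [Group.IsSolvable G] {C D : Subgroup G} (hC : IsCarterPair C)
    (hD : IsCarterPair D) : ∃ g : G, MulAut.conj g • C = D :=
  conjBelow (Nat.card G + 1) G (Nat.lt_succ_self _) C D hC hD

theorem exists_aux (n : ℕ) : ∀ (G : Type u) [Group G] [Finite G] [Group.IsSolvable G],
    Nat.card G = n → ∃ C : Subgroup G, IsCarterPair C := by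
  induction n using Nat.strong_induction_on with
  | _ n ih =>
  intro G _ _ _ hn
  by_cases hnil : Group.IsNilpotent G
  · exact ⟨⊤, Group.isNilpotent_top.2 hnil, Subgroup.normalizer_eq_top_iff.2 inferInstance⟩
  haveI : Nontrivial G := by
    rw [← not_subsingleton_iff_nontrivial]
    intro h
    exact hnil inferInstance
  obtain ⟨N, hN, hNne, hmin⟩ := MinNormal.exists_minimal (G := G)
  haveI := hN
  obtain ⟨hab, p, hp, hexp⟩ := MinNormal.elementary_of_solvable hNne hmin
  haveI := hab
  haveI := Fact.mk hp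
  haveI : Group.IsSolvable (G ⧸ N) :=
    Group.isSolvable_of_surjective (QuotientGroup.mk'_surjective N)
  have hsurj := QuotientGroup.mk'_surjective N
  obtain ⟨Hb, hHb⟩ := ih (Nat.card (G ⧸ N)) (by
    rw [← hn, Subgroup.card_eq_card_quotient_mul_card_subgroup N]
    exact lt_mul_of_one_lt_right Nat.card_pos ((Subgroup.one_lt_card_iff_ne_bot N).2 hNne))
    (G ⧸ N) rfl
  set H := Hb.comap (QuotientGroup.mk' N) with hH
  by_cases htop : H = ⊤
  · have hHbt : Hb = ⊤ := by
      rw [← Subgroup.map_comap_eq_self_of_surjective hsurj Hb, ← hH, htop,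
        Subgroup.map_top_of_surjective _ hsurj]
    have hqn : Group.IsNilpotent (G ⧸ N) := Group.isNilpotent_top.1 (hHbt ▸ hHb.1)
    by_cases hfr : N ≤ frattini G
    · exfalso
      refine hnil ((Group.isNilpotent_of_finite_tfae (G := G)).out 0 2 rfl rfl |>.2 fun M hM => ?_)
      have hle : N ≤ M := hfr.trans (frattini_le_coatom hM)
      have he : M = (M.map (QuotientGroup.mk' N)).comap (QuotientGroup.mk' N) := by
        rw [Subgroup.comap_map_eq, QuotientGroup.ker_mk', sup_eq_left.2 hle]
      have hMc : IsCoatom (M.map (QuotientGroup.mk' N)) := by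
        refine ⟨fun h => hM.1 ?_, fun K hK => ?_⟩
        · rw [he, h, Subgroup.comap_top]
        · have h2 : M < K.comap (QuotientGroup.mk' N) := by
            refine lt_of_le_of_ne (Subgroup.map_le_iff_le_comap.1 hK.le) fun h => hK.ne ?_
            rw [h, Subgroup.map_comap_eq_self_of_surjective hsurj]
          rw [← Subgroup.map_comap_eq_self_of_surjective hsurj K, hM.2 _ h2,
            Subgroup.map_top_of_surjective _ hsurj]
      rw [he]
      exact ((Group.isNilpotent_of_finite_tfae (G := G ⧸ N)).out 0 2 rfl rfl |>.1 hqn _ hMc).comap _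
    · rw [frattini, Order.radical, le_iInf₂_iff] at hfr
      push Not at hfr
      obtain ⟨M, hM, hle⟩ := hfr
      have hc := MinNormal.isComplement'_of_not_le hM hmin hle
      refine ⟨M, Group.nilpotent_of_mulEquiv (hc.symm.QuotientMulEquiv : _ ≃* _), ?_⟩
      rcases hM.le_iff.1 (Subgroup.le_normalizer : M ≤ Subgroup.normalizer (M : Set G)) with h | h
      · exfalso
        haveI : M.Normal := Subgroup.normalizer_eq_top_iff.1 h
        refine hnil (isNilpotent_of_inf_eq_bot hc.disjoint.eq_bot hqn ?_)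
        haveI := (MinNormal.isPGroup_of_pow_eq_one hexp).isNilpotent
        exact Group.nilpotent_of_mulEquiv (hc.QuotientMulEquiv : _ ≃* _).symm
      · exact h
  · obtain ⟨C0, hC0⟩ := ih (Nat.card H) (hn ▸ card_lt_card htop) H rfl
    set C := C0.map H.subtype with hC
    have hCH : C ≤ H := Subgroup.map_subtype_le _
    refine ⟨C, isNilpotent_map _ hC0.1, ?_⟩
    have hNH : N ≤ H := by
      intro x hx
      rw [hH, Subgroup.mem_comap, QuotientGroup.mk'_apply, (QuotientGroup.eq_one_iff x).2 hx]
      exact one_mem _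
    -- `C N = H`
    have hCN : C ⊔ N = H := by
      set N0 := N.subgroupOf H with hN0
      haveI : N0.Normal := inferInstance
      have hsn := normalizer_sup le_rfl (conjBelow (Nat.card H)) (N := N0) hC0
      set f : H →* Hb := ((QuotientGroup.mk' N).comp H.subtype).codRestrict Hb fun x => x.2 with hf
      have hfs : Function.Surjective f := by
        rintro ⟨y, hy⟩
        obtain ⟨x, rfl⟩ := hsurj y
        exact ⟨⟨x, hy⟩, rfl⟩
      have hker : f.ker = N0 := by
        ext x
        rw [MonoidHom.mem_ker, hN0, Subgroup.mem_subgroupOf, ← QuotientGroup.eq_one_iff]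
        exact Subtype.ext_iff
      have h1 : IsCarterPair ((C0 ⊔ N0).map f) := by
        refine ⟨?_, ?_⟩
        · haveI := hHb.1; infer_instance
        · apply Subgroup.comap_injective hfs
          rw [Subgroup.comap_normalizer_eq_of_surjective _ hfs, Subgroup.comap_map_eq, hker,
            sup_assoc, sup_idem]
          exact hsn
      haveI := hHb.1
      have h2 := congrArg (Subgroup.comap f) (eq_top_of_isNilpotent h1)
      rw [Subgroup.comap_map_eq, hker, sup_assoc, sup_idem, Subgroup.comap_top] at h2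
      have h3 := congrArg (Subgroup.map H.subtype) h2
      rw [Subgroup.map_sup, hN0, Subgroup.map_subgroupOf_eq_of_le hNH, ← MonoidHom.range_eq_map,
        Subgroup.range_subtype] at h3
      exact h3
    have hHself : Subgroup.normalizer (H : Set G) = H := by
      rw [hH, ← Subgroup.comap_normalizer_eq_of_surjective _ hsurj, hHb.2]
    refine le_antisymm (fun g hg => ?_) Subgroup.le_normalizer
    have hgH : g ∈ H := by
      rw [← hHself, Subgroup.mem_normalizer_iff_map_conj_eq]
      show MulAut.conj g • H = H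
      rw [← hCN, Subgroup.smul_sup,
        show MulAut.conj g • C = C from Subgroup.mem_normalizer_iff_map_conj_eq.1 hg,
        show MulAut.conj g • N = N from Subgroup.Normal.conjAct ‹N.Normal› (ConjAct.toConjAct g)]
    have h4 : (⟨g, hgH⟩ : H) ∈ (Subgroup.normalizer (C : Set G)).subgroupOf H := hg
    rw [Subgroup.subgroupOf_normalizer_eq hCH, hC,
      show (C0.map H.subtype).subgroupOf H = C0 from
        Subgroup.comap_map_eq_self_of_injective H.subtype_injective C0, hC0.2] at h4
    exact ⟨_, h4, rfl⟩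

/-- Finite solvable groups have Carter subgroups. -/
theorem exists_carter (G : Type u) [Group G] [Finite G] [Group.IsSolvable G] :
    ∃ C : Subgroup G, IsCarterPair C :=
  exists_aux _ G rfl

end Cfsg.Agent.Lib.Cores.Carter
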