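import Cfsg.Agent.Lib.Cores.Basic
import Cfsg.Agent.S0046
import Cfsg.Agent.S0048

/-!
# Minimal non-nilpotent groups
-/

set_option autoImplicit false
set_option linter.style.haveILetI false

open Cfsg

namespace Cfsg.Agent.Lib.Cores.Schmidt

variable {G : Type*} [Group G]

/-- A subgroup containing the commutator subgroup is normal. -/
theorem normal_of_commutator_le {M : Subgroup G} (h : commutator G ≤ M) : M.Normal :=
  ⟨fun n hn g => by
    have h1 : g * n * g⁻¹ * n⁻¹ ∈ M := by
      refine h ?_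
      rw [commutator_def]
      exact Subgroup.commutator_mem_commutator (Subgroup.mem_top g) (Subgroup.mem_top n)
    simpa [mul_assoc] using M.mul_mem h1 hn⟩

/-- In a nilpotent subgroup, subgroups of coprime prime-power orders commute. -/
theorem commute_of_isNilpotent [Finite G] {T A B : Subgroup G} (hT : Group.IsNilpotent T)
    {p r : ℕ} [hp : Fact p.Prime] [hr : Fact r.Prime] (hne : p ≠ r) (hA : A ≤ T) (hB : B ≤ T)
    (hAp : IsPGroup p A) (hBr : IsPGroup r B) : A ≤ Subgroup.centralizer (B : Set G) := by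
  haveI := hT
  have key : ∀ (s : ℕ) [Fact s.Prime] (C : Subgroup G), IsPGroup s C →
      C.subgroupOf T ≤ pCore s T := by
    intro s _ C hC
    obtain ⟨S, hS⟩ := (hC.comap_subtype (K := T)).exists_le_sylow
    rw [pCore_eq_of_normal_sylow S]
    exact hS
  intro a ha
  rw [Subgroup.mem_centralizer_iff]
  intro b hb
  have hd : Disjoint (pCore p T) (pCore r T) :=
    IsPGroup.disjoint_of_ne p r hne _ _ (pCore_isPGroup p) (pCore_isPGroup r)
  have h := Subgroup.commute_of_normal_of_disjoint (pCore p T) (pCore r T) inferInstance inferInstance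
    hd ⟨a, hA ha⟩ ⟨b, hB hb⟩ (key p A hAp (show (⟨a, hA ha⟩ : T) ∈ A.subgroupOf T from ha))
    (key r B hBr (show (⟨b, hB hb⟩ : T) ∈ B.subgroupOf T from hb))
  exact congrArg Subtype.val h.symm.eq

/-- Schmidt: structure of minimal non-nilpotent groups. -/
theorem structure_of_minimal [Finite G] (hn : ¬ Group.IsNilpotent G)
    (h : ∀ H : Subgroup G, H ≠ ⊤ → Group.IsNilpotent H) :
    ∃ p q : ℕ, p.Prime ∧ q.Prime ∧ p ≠ q ∧ ∃ (P : Sylow p G) (Q : Sylow q G),
      IsCyclic P ∧ (Q : Subgroup G).Normal ∧ (P : Subgroup G) ⊔ Q = ⊤ ∧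
      ¬ (P : Subgroup G) ≤ Subgroup.centralizer ((Q : Subgroup G) : Set G) := by
  haveI : Group.IsSolvable G := S0046.result fun M hM => h M hM.1
  haveI : Nontrivial G := by
    rw [← not_subsingleton_iff_nontrivial]
    intro hs
    exact hn inferInstance
  have hc : commutator G ≠ ⊤ := (Group.IsSolvable.commutator_lt_top_of_nontrivial G).ne
  obtain ⟨M, hM, hle⟩ := (eq_top_or_exists_le_coatom (commutator G)).resolve_left hc
  haveI := normal_of_commutator_le hle
  obtain ⟨p, k, hp, -, hidx⟩ := (isPrimePow_nat_iff _).1 (S0048.result M hM)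
  haveI := Fact.mk hp
  haveI hMnil := h M hM.1
  have hnormal : ∀ (r : ℕ) [Fact r.Prime], r ≠ p → ∀ R : Sylow r G, (R : Subgroup G).Normal := by
    intro r hr hrp R
    have hRM : (R : Subgroup G) ≤ M := by
      refine Subgroup.relIndex_eq_one.1 (Nat.eq_one_of_dvd_coprimes ?_
        (Subgroup.relIndex_dvd_card M (R : Subgroup G))
        (Subgroup.relIndex_dvd_index_of_normal M (R : Subgroup G)))
      obtain ⟨n, hn⟩ := IsPGroup.iff_card.1 R.isPGroup'
      rw [hn, ← hidx]
      exact Nat.Coprime.pow n k ((Nat.coprime_primes hr.out hp).2 hrp)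
    haveI hnR : (R.subtype hRM : Subgroup M).Normal := inferInstance
    haveI := (R.subtype hRM).characteristic_of_normal hnR
    have h1 : (((R.subtype hRM : Sylow r M) : Subgroup M).map M.subtype).Normal :=
      ConjAct.normal_of_characteristic_of_normal
    rwa [Sylow.coe_subtype, Subgroup.map_subgroupOf_eq_of_le hRM] at h1
  obtain ⟨P, hP⟩ : ∃ P : Sylow p G, ¬ (P : Subgroup G).Normal := by
    by_contra hcon
    push Not at hcon
    refine hn ((Group.isNilpotent_of_finite_tfae.out 0 3 rfl rfl).2 fun r hr R => ?_)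
    by_cases hrp : r = p
    · subst hrp; exact hcon R
    · exact hnormal r hrp R
  obtain ⟨q, hq, hqp, Q, hPQ⟩ : ∃ q, q.Prime ∧ q ≠ p ∧ ∃ Q : Sylow q G,
      ¬ (P : Subgroup G) ≤ Subgroup.centralizer ((Q : Subgroup G) : Set G) := by
    by_contra hcon
    push Not at hcon
    refine hP (Subgroup.normalizer_eq_top_iff.1 (Subgroup.index_eq_one.1
      (Nat.eq_one_iff_not_exists_prime_dvd.2 fun r hr hd => ?_)))
    haveI := Fact.mk hr
    by_cases hrp : r = p
    · subst hrp
      exact P.not_dvd_index (hd.trans (Subgroup.index_dvd_of_le Subgroup.le_normalizer))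
    · obtain ⟨R⟩ : Nonempty (Sylow r G) := inferInstance
      refine R.not_dvd_index (hd.trans (Subgroup.index_dvd_of_le fun x hx => ?_))
      rw [Subgroup.mem_normalizer_iff]
      intro y
      have hcomm : ∀ y ∈ (P : Subgroup G), x * y * x⁻¹ = y := fun y hy => by
        rw [Subgroup.mem_centralizer_iff.1 (hcon r hr hrp R hy) x hx, mul_inv_cancel_right]
      refine ⟨fun hy => by rw [hcomm y hy]; exact hy, fun hy => ?_⟩
      have h1 := hcomm _ hy
      have h2 : x * y * x⁻¹ = y := mul_left_cancel (mul_right_cancel h1)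
      rwa [← h2]
  haveI := Fact.mk hq
  haveI hQn := hnormal q hqp Q
  have hsup : (P : Subgroup G) ⊔ Q = ⊤ := by
    by_contra hne
    exact hPQ (commute_of_isNilpotent (h _ hne) (Ne.symm hqp) le_sup_left le_sup_right
      P.isPGroup' Q.isPGroup')
  refine ⟨p, q, hp, hq, Ne.symm hqp, P, Q, ?_, hQn, hsup, hPQ⟩
  by_contra hcyc
  refine hPQ fun x hx => ?_
  have hxP : Subgroup.zpowers x ≤ (P : Subgroup G) := Subgroup.zpowers_le.2 hx
  have hne : Subgroup.zpowers x ⊔ (Q : Subgroup G) ≠ ⊤ := by
    intro ht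
    have h1 := card_sup_dvd_mul (Subgroup.zpowers x) (Q : Subgroup G)
    rw [ht, Subgroup.card_top] at h1
    have hc : (Nat.card (P : Subgroup G)).Coprime (Nat.card (Q : Subgroup G)) :=
      IsPGroup.coprime_card_of_ne p q (Ne.symm hqp) _ _ P.isPGroup' Q.isPGroup'
    have h2 := (hc.mul_dvd_of_dvd_of_dvd (Subgroup.card_subgroup_dvd_card _)
      (Subgroup.card_subgroup_dvd_card _)).trans h1
    have h3 := Nat.dvd_of_mul_dvd_mul_right Nat.card_pos h2
    have he := Subgroup.eq_of_le_of_card_ge hxP (Nat.le_of_dvd Nat.card_pos h3)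
    exact hcyc (he ▸ Subgroup.isCyclic_zpowers x)
  exact commute_of_isNilpotent (h _ hne) (Ne.symm hqp) le_sup_left le_sup_right
    (P.isPGroup'.to_le hxP) Q.isPGroup' (Subgroup.mem_zpowers x)

end Cfsg.Agent.Lib.Cores.Schmidt
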